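import Mathlib

/-!
# Bundled endomorphisms, similarity and cyclic endomorphisms
-/

set_option autoImplicit false

namespace Cfsg.Agent.Classical.Thompson

open Polynomial Module

universe u

/-- An endomorphism of a finite dimensional space. -/
structure Obj (F : Type u) [Field F] where
  V : Type u
  [grp : AddCommGroup V]
  [mdl : Module F V]
  [fd : FiniteDimensional F V]
  T : Module.End F V

attribute [instance] Obj.grp Obj.mdl Obj.fd

variable {F : Type u} [Field F]

/-- Similarity. -/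
def Obj.Iso (A B : Obj F) : Prop := ∃ e : A.V ≃ₗ[F] B.V, ∀ v, e (A.T v) = B.T (e v)

theorem Obj.Iso.refl (A : Obj F) : A.Iso A := ⟨LinearEquiv.refl F A.V, fun _ => rfl⟩

theorem Obj.Iso.symm {A B : Obj F} (h : A.Iso B) : B.Iso A := by
  obtain ⟨e, he⟩ := h
  exact ⟨e.symm, fun v => e.injective (by rw [he, e.apply_symm_apply, e.apply_symm_apply])⟩

theorem Obj.Iso.trans {A B C : Obj F} (h : A.Iso B) (h' : B.Iso C) : A.Iso C := by
  obtain ⟨e, he⟩ := h
  obtain ⟨e', he'⟩ := h'
  exact ⟨e.trans e', fun v => by simp [he, he']⟩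

/-- Direct sum. -/
abbrev Obj.prod (A B : Obj F) : Obj F := ⟨A.V × B.V, A.T.prodMap B.T⟩

theorem Obj.Iso.prod {A A' B B' : Obj F} (h : A.Iso A') (h' : B.Iso B') :
    (A.prod B).Iso (A'.prod B') := by
  obtain ⟨e, he⟩ := h
  obtain ⟨e', he'⟩ := h'
  exact ⟨e.prodCongr e', fun v => Prod.ext (he v.1) (he' v.2)⟩

theorem Obj.prod_comm (A B : Obj F) : (A.prod B).Iso (B.prod A) :=
  ⟨LinearEquiv.prodComm F A.V B.V, fun _ => rfl⟩

theorem Obj.prod_assoc (A B C : Obj F) : ((A.prod B).prod C).Iso (A.prod (B.prod C)) :=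
  ⟨LinearEquiv.prodAssoc F A.V B.V C.V, fun _ => rfl⟩

theorem Obj.prod_left_comm (A B C : Obj F) : (A.prod (B.prod C)).Iso (B.prod (A.prod C)) :=
  ((Obj.prod_assoc A B C).symm.trans ((Obj.prod_comm A B).prod (Obj.Iso.refl C))).trans
    (Obj.prod_assoc B A C)

theorem Obj.prod_four (A B C D : Obj F) :
    ((A.prod B).prod (C.prod D)).Iso ((A.prod C).prod (B.prod D)) :=
  ⟨LinearEquiv.prodProdProdComm F A.V B.V C.V D.V, fun _ => rfl⟩

/-- The determinant. -/
noncomputable def Obj.det (A : Obj F) : F := LinearMap.det A.T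

theorem Obj.det_prod (A B : Obj F) : (A.prod B).det = A.det * B.det :=
  LinearMap.det_prodMap A.T B.T

theorem Obj.Iso.det_eq {A B : Obj F} (h : A.Iso B) : A.det = B.det := by
  obtain ⟨e, he⟩ := h
  have : B.T = e.toLinearMap ∘ₗ A.T ∘ₗ e.symm.toLinearMap := by
    ext v
    simp [he]
  rw [Obj.det, Obj.det, this, LinearMap.det_conj]

/-- Multiplication by the root on `F[X]/(f)`. -/
noncomputable abbrev Q (f : F[X]) (hf : f.Monic) : Obj F :=
  haveI : FiniteDimensional F (AdjoinRoot f) := Module.Finite.of_basis (AdjoinRoot.powerBasis' hf).basis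
  ⟨AdjoinRoot f, LinearMap.mulLeft F (AdjoinRoot.root f)⟩

/-- `T` is cyclic with characteristic polynomial `f`. -/
def Obj.Cyc (A : Obj F) (f : F[X]) : Prop :=
  ∃ v : A.V, (∀ p : F[X], aeval A.T p v = 0 ↔ f ∣ p) ∧ ∀ w, ∃ p : F[X], aeval A.T p v = w

theorem aeval_intertwine {A B : Obj F} (e : A.V →ₗ[F] B.V) (he : ∀ v, e (A.T v) = B.T (e v))
    (p : F[X]) (v : A.V) : e (aeval A.T p v) = aeval B.T p (e v) := by
  induction p using Polynomial.induction_on generalizing v with
  | C a => simp [Module.algebraMap_end_apply]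
  | add p q hp hq => simp [hp, hq]
  | monomial n a h =>
    rw [pow_succ, ← mul_assoc]
    simp only [map_mul, Module.End.mul_apply, aeval_X] at h ⊢
    rw [h, he]

theorem aeval_prod (A B : Obj F) (p : F[X]) (v : A.V × B.V) :
    aeval (A.prod B).T p v = (aeval A.T p v.1, aeval B.T p v.2) := by
  refine Prod.ext ?_ ?_
  · exact aeval_intertwine (A := A.prod B) (B := A) (LinearMap.fst F A.V B.V) (fun _ => rfl) p v
  · exact aeval_intertwine (A := A.prod B) (B := B) (LinearMap.snd F A.V B.V) (fun _ => rfl) p v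


theorem cyc_Q (f : F[X]) (hf : f.Monic) : (Q f hf).Cyc f := by
  have h : ∀ p : F[X], aeval (Q f hf).T p (1 : AdjoinRoot f) = AdjoinRoot.mk f p := by
    intro p
    have h2 : aeval (Algebra.lmul F (AdjoinRoot f) (AdjoinRoot.root f)) p =
        Algebra.lmul F (AdjoinRoot f) (aeval (AdjoinRoot.root f) p) :=
      Polynomial.aeval_algHom_apply _ _ _
    rw [AdjoinRoot.aeval_eq] at h2
    calc aeval (Q f hf).T p (1 : AdjoinRoot f)
        = (Algebra.lmul F (AdjoinRoot f) (AdjoinRoot.mk f p)) 1 := by rw [← h2]; rfl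
      _ = AdjoinRoot.mk f p := by simp
  refine ⟨(1 : AdjoinRoot f), fun p => ?_, fun w => ?_⟩
  · rw [h p, AdjoinRoot.mk_eq_zero]
  · obtain ⟨p, hp⟩ := AdjoinRoot.mk_surjective w
    exact ⟨p, (h p).trans hp⟩

theorem Obj.Cyc.iso {A : Obj F} {f : F[X]} (h : A.Cyc f) {B : Obj F} (h' : B.Cyc f) : A.Iso B := by
  obtain ⟨v, hv, hs⟩ := h
  obtain ⟨v', hv', hs'⟩ := h'
  choose q hq using hs
  have hsub : ∀ p r : F[X], aeval A.T p v = aeval A.T r v → aeval B.T p v' = aeval B.T r v' := by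
    intro p r hpr
    have h0 : aeval A.T (p - r) v = 0 := by rw [map_sub, LinearMap.sub_apply, hpr, sub_self]
    have h1 := (hv' _).mpr ((hv _).mp h0)
    rwa [map_sub, LinearMap.sub_apply, sub_eq_zero] at h1
  let e : A.V →ₗ[F] B.V :=
    { toFun := fun w => aeval B.T (q w) v'
      map_add' := fun a b => by
        have := hsub (q (a + b)) (q a + q b) (by rw [hq, map_add, LinearMap.add_apply, hq, hq])
        rw [this, map_add, LinearMap.add_apply]
      map_smul' := fun c a => by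
        have := hsub (q (c • a)) (c • q a) (by rw [hq, map_smul, LinearMap.smul_apply, hq])
        rw [this, map_smul, LinearMap.smul_apply, RingHom.id_apply] }
  have hinj : Function.Injective e := by
    refine (injective_iff_map_eq_zero e).mpr fun w hw => ?_
    have h1 := (hv _).mpr ((hv' _).mp (show aeval B.T (q w) v' = 0 from hw))
    rwa [hq] at h1
  have hsurj : Function.Surjective e := fun w => by
    obtain ⟨p, rfl⟩ := hs' w
    exact ⟨aeval A.T p v, hsub _ _ (hq _)⟩
  refine ⟨LinearEquiv.ofBijective e ⟨hinj, hsurj⟩, fun w => ?_⟩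
  show aeval B.T (q (A.T w)) v' = B.T (aeval B.T (q w) v')
  rw [hsub (q (A.T w)) (X * q w) (by rw [hq, map_mul, aeval_X, Module.End.mul_apply, hq]),
    map_mul, aeval_X, Module.End.mul_apply]

theorem Obj.Cyc.iso_Q {A : Obj F} {f : F[X]} (hf : f.Monic) (h : A.Cyc f) : A.Iso (Q f hf) :=
  h.iso (cyc_Q f hf)

theorem Obj.Cyc.of_iso {A B : Obj F} {f : F[X]} (h : A.Cyc f) (hi : A.Iso B) : B.Cyc f := by
  obtain ⟨v, hv, hs⟩ := h
  obtain ⟨e, he⟩ := hi
  have h1 : ∀ p : F[X], e (aeval A.T p v) = aeval B.T p (e v) := fun p =>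
    aeval_intertwine e.toLinearMap he p v
  refine ⟨e v, fun p => ?_, fun w => ?_⟩
  · rw [← h1, LinearEquiv.map_eq_zero_iff, hv]
  · obtain ⟨p, hp⟩ := hs (e.symm w)
    exact ⟨p, by rw [← h1, hp, e.apply_symm_apply]⟩

theorem finrank_Q (f : F[X]) (hf : f.Monic) : finrank F (Q f hf).V = f.natDegree := by
  rw [(AdjoinRoot.powerBasis' hf).finrank, AdjoinRoot.powerBasis'_dim]

theorem Obj.Cyc.finrank_eq {A : Obj F} {f : F[X]} (hf : f.Monic) (h : A.Cyc f) :
    finrank F A.V = f.natDegree := by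
  obtain ⟨e, -⟩ := h.iso_Q hf
  rw [e.finrank_eq, finrank_Q]

/-- A vector with exact annihilator of full degree generates. -/
theorem Obj.cyc_of_dim (A : Obj F) {f : F[X]} (hf : f.Monic) (v : A.V)
    (hv : ∀ p : F[X], aeval A.T p v = 0 ↔ f ∣ p) (hd : finrank F A.V = f.natDegree) : A.Cyc f := by
  refine ⟨v, hv, fun w => ?_⟩
  let e : AdjoinRoot f →ₗ[F] A.V :=
    Submodule.liftQ ((Ideal.span {f}).restrictScalars F)
      ((LinearMap.applyₗ v).comp (aeval A.T).toLinearMap)
      (fun p hp => (hv p).mpr (Ideal.mem_span_singleton.mp hp))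
  haveI : FiniteDimensional F (AdjoinRoot f) :=
    Module.Finite.of_basis (AdjoinRoot.powerBasis' hf).basis
  have hinj : Function.Injective e := by
    refine (injective_iff_map_eq_zero e).mpr fun x => ?_
    obtain ⟨p, rfl⟩ := AdjoinRoot.mk_surjective x
    intro hx
    rw [AdjoinRoot.mk_eq_zero]
    exact (hv p).mp hx
  have hsurj : Function.Surjective e :=
    (LinearMap.injective_iff_surjective_of_finrank_eq_finrank
      (by rw [hd]; exact (finrank_Q f hf))).mp hinj
  obtain ⟨x, hx⟩ := hsurj w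
  obtain ⟨p, rfl⟩ := AdjoinRoot.mk_surjective x
  exact ⟨p, hx⟩

theorem Obj.Cyc.charpoly_eq {A : Obj F} {f : F[X]} (hf : f.Monic) (h : A.Cyc f) :
    A.T.charpoly = f := by
  have hd := h.finrank_eq hf
  obtain ⟨v, hv, -⟩ := h
  refine eq_of_monic_of_dvd_of_natDegree_le hf A.T.charpoly_monic ?_ (le_of_eq ?_)
  · exact (hv _).mp (by rw [LinearMap.aeval_self_charpoly]; rfl)
  · rw [LinearMap.charpoly_natDegree, hd]

theorem Obj.Cyc.det_eq {A : Obj F} {f : F[X]} (hf : f.Monic) (h : A.Cyc f) :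
    A.det = (-1) ^ f.natDegree * f.coeff 0 := by
  rw [Obj.det, LinearMap.det_eq_sign_charpoly_coeff, h.charpoly_eq hf, h.finrank_eq hf]

theorem det_Q (f : F[X]) (hf : f.Monic) : (Q f hf).det = (-1) ^ f.natDegree * f.coeff 0 :=
  (cyc_Q f hf).det_eq hf

/-- Direct sum of coprime cyclic endomorphisms is cyclic. -/
theorem Obj.Cyc.prod {A B : Obj F} {f g : F[X]} (hA : A.Cyc f) (hB : B.Cyc g) (hfg : IsCoprime f g) :
    (A.prod B).Cyc (f * g) := by
  obtain ⟨v, hv, hs⟩ := hA
  obtain ⟨w, hw, ht⟩ := hB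
  refine ⟨(v, w), fun p => ?_, fun x => ?_⟩
  · rw [aeval_prod, Prod.mk_eq_zero, hv, hw]
    exact ⟨fun h => hfg.mul_dvd h.1 h.2,
      fun h => ⟨(dvd_mul_right f g).trans h, (dvd_mul_left g f).trans h⟩⟩
  · obtain ⟨a, ha⟩ := hs x.1
    obtain ⟨b, hb⟩ := ht x.2
    obtain ⟨c, d, hcd⟩ := hfg
    refine ⟨a * (d * g) + b * (c * f), ?_⟩
    have hfv : aeval A.T f v = 0 := (hv f).mpr dvd_rfl
    have hgw : aeval B.T g w = 0 := (hw g).mpr dvd_rfl
    have e1 : aeval A.T (a * (d * g) + b * (c * f)) v = aeval A.T a v := by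
      have : a * (d * g) + b * (c * f) = a + (b - a) * c * f := by linear_combination a * hcd
      rw [this, map_add, LinearMap.add_apply, map_mul, Module.End.mul_apply, hfv, map_zero, add_zero]
    have e2 : aeval B.T (a * (d * g) + b * (c * f)) w = aeval B.T b w := by
      have : a * (d * g) + b * (c * f) = b + (a - b) * d * g := by linear_combination b * hcd
      rw [this, map_add, LinearMap.add_apply, map_mul, Module.End.mul_apply, hgw, map_zero, add_zero]
    rw [aeval_prod]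
    exact Prod.ext (e1.trans ha) (e2.trans hb)

theorem Q_mul_iso {f g : F[X]} (hf : f.Monic) (hg : g.Monic) (hfg : IsCoprime f g) :
    (Q (f * g) (hf.mul hg)).Iso ((Q f hf).prod (Q g hg)) :=
  (cyc_Q _ _).iso ((cyc_Q f hf).prod (cyc_Q g hg) hfg)

end Cfsg.Agent.Classical.Thompson
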