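import Cfsg.Agent.Lib.Classical.Thompson.Basic

/-!
# Prescribing the characteristic polynomials of a factor and of a product
-/

set_option autoImplicit false

namespace Cfsg.Agent.Classical.Thompson

open Polynomial Module

universe u

variable {F : Type u} [Field F] {V : Type u} [AddCommGroup V] [Module F V] [FiniteDimensional F V]

/-- A coordinate system indexed by the naturals below `n`. -/
structure Coords (F : Type u) [Field F] (V : Type u) [AddCommGroup V] [Module F V] (n : ℕ) where
  b : ℕ → V
  ψ : ℕ → V →ₗ[F] F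
  dual : ∀ i < n, ∀ j < n, ψ i (b j) = if i = j then 1 else 0
  expand : ∀ v, v = ∑ i ∈ Finset.range n, ψ i v • b i

noncomputable def Coords.ofBasis {n : ℕ} (e : Basis (Fin n) F V) : Coords F V n where
  b i := if h : i < n then e ⟨i, h⟩ else 0
  ψ i := if h : i < n then e.coord ⟨i, h⟩ else 0
  dual i hi j hj := by
    simp [dif_pos hi, dif_pos hj, Finsupp.single_apply, Fin.ext_iff, eq_comm]
  expand v := by
    conv_lhs => rw [← e.sum_repr v]
    rw [← Fin.sum_univ_eq_sum_range
      (fun i => (if h : i < n then e.coord ⟨i, h⟩ else 0) v • (if h : i < n then e ⟨i, h⟩ else 0)) n]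
    exact Finset.sum_congr rfl fun i _ => by simp [dif_pos i.2]

variable {n : ℕ} (K : Coords F V n)

theorem Coords.map_eq {W : Type u} [AddCommGroup W] [Module F W] (L : V →ₗ[F] W) (v : V) :
    L v = ∑ i ∈ Finset.range n, K.ψ i v • L (K.b i) := by
  conv_lhs => rw [K.expand v]
  simp

theorem Coords.finrank_eq (K : Coords F V n) : finrank F V = n := by
  have hinj : Function.Injective (LinearMap.pi fun i : Fin n => K.ψ i) := by
    refine (injective_iff_map_eq_zero _).mpr fun v hv => ?_
    rw [K.expand v]
    refine Finset.sum_eq_zero fun i hi => ?_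
    have := congrFun hv ⟨i, Finset.mem_range.mp hi⟩
    simp only [LinearMap.pi_apply, Pi.zero_apply] at this
    rw [this, zero_smul]
  have hsurj : Function.Surjective (LinearMap.pi fun i : Fin n => K.ψ i) := fun f => by
    refine ⟨∑ j : Fin n, f j • K.b j, funext fun i => ?_⟩
    simp [K.dual i i.2 _ (Fin.isLt _), Fin.val_inj]
  rw [(LinearEquiv.ofBijective _ ⟨hinj, hsurj⟩).finrank_eq, finrank_fin_fun]

/-- Lower unitriangular data: column `j` reaches exactly to row `j + 1`. -/
def Coords.Hess (k : ℕ) (M : Module.End F V) : Prop :=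
  ∀ j < k, (∀ i, j + 1 < i → i < n → K.ψ i (M (K.b j)) = 0) ∧ K.ψ (j + 1) (M (K.b j)) ≠ 0

theorem Coords.iter {k : ℕ} (hk : k < n) {M : Module.End F V} (hM : K.Hess k M) :
    ∀ j ≤ k, (∀ i, j < i → i < n → K.ψ i ((M ^ j) (K.b 0)) = 0) ∧ K.ψ j ((M ^ j) (K.b 0)) ≠ 0 := by
  intro j
  induction j with
  | zero =>
    intro _
    refine ⟨fun i hi hin => ?_, ?_⟩
    · rw [pow_zero, Module.End.one_apply, K.dual i hin 0 (by omega), if_neg (by omega)]
    · rw [pow_zero, Module.End.one_apply, K.dual 0 (by omega) 0 (by omega), if_pos rfl]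
      exact one_ne_zero
  | succ j ih =>
    intro hj
    obtain ⟨h1, h2⟩ := ih (by omega)
    have hexp : ∀ i, K.ψ i ((M ^ (j + 1)) (K.b 0)) =
        ∑ l ∈ Finset.range n, K.ψ l ((M ^ j) (K.b 0)) * K.ψ i (M (K.b l)) := by
      intro i
      rw [pow_succ', Module.End.mul_apply]
      exact K.map_eq ((K.ψ i).comp M) _
    refine ⟨fun i hi hin => ?_, ?_⟩
    · rw [hexp]
      refine Finset.sum_eq_zero fun l hl => ?_
      rcases le_or_gt l j with h | h
      · rw [(hM l (by omega)).1 i (by omega) hin, mul_zero]
      · rw [h1 l h (Finset.mem_range.mp hl), zero_mul]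
    · rw [hexp, Finset.sum_eq_single j]
      · exact mul_ne_zero h2 (hM j (by omega)).2
      · intro l hl hne
        rcases lt_or_gt_of_ne hne with h | h
        · rw [(hM l (by omega)).1 (j + 1) (by omega) (by omega), mul_zero]
        · rw [h1 l h (Finset.mem_range.mp hl), zero_mul]
      · intro h
        exact absurd (Finset.mem_range.mpr (by omega)) h

/-- The coordinates of the first iterates. -/
theorem Coords.iter_eq {k : ℕ} (hk : k < n) {M M' : Module.End F V} (hM : K.Hess k M)
    (hMM : ∀ j < k, M (K.b j) = M' (K.b j)) : ∀ j ≤ k, (M' ^ j) (K.b 0) = (M ^ j) (K.b 0) := by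
  intro j
  induction j with
  | zero => intro _; rw [pow_zero, pow_zero]
  | succ j ih =>
    intro hj
    rw [pow_succ', pow_succ', Module.End.mul_apply, Module.End.mul_apply, ih (by omega),
      K.map_eq M, K.map_eq M']
    refine Finset.sum_congr rfl fun l hl => ?_
    rcases le_or_gt l j with h | h
    · rw [hMM l (by omega)]
    · rw [(K.iter hk hM j (by omega)).1 l h (Finset.mem_range.mp hl), zero_smul, zero_smul]

/-- A Hessenberg map can be completed to a cyclic map with any characteristic polynomial. -/
theorem Coords.complete {k : ℕ} (hn : n = k + 1) {M0 : Module.End F V} (hM : K.Hess k M0) (g : F[X])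
    (hg : g.Monic) (hgd : g.natDegree = n) :
    ∃ M : Module.End F V, (∀ j < k, M (K.b j) = M0 (K.b j)) ∧ aeval M g (K.b 0) = 0 ∧
      (⟨V, M⟩ : Obj F).Cyc g := by
  classical
  let ev : degreeLT F n →ₗ[F] V :=
    ((LinearMap.applyₗ (K.b 0)).comp (aeval M0).toLinearMap).comp (degreeLT F n).subtype
  have hev : ∀ (p : degreeLT F n), ev p = ∑ j ∈ Finset.range n, (p : F[X]).coeff j • (M0 ^ j) (K.b 0) := by
    intro p
    show aeval M0 (p : F[X]) (K.b 0) = _
    have hdeg : (p : F[X]).natDegree < n := by
      by_cases h0 : (p : F[X]) = 0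
      · rw [h0, natDegree_zero]; omega
      · exact (natDegree_lt_iff_degree_lt h0).mpr (mem_degreeLT.mp p.2)
    rw [aeval_eq_sum_range' hdeg]
    simp
  have hinj : Function.Injective ev := by
    refine (injective_iff_map_eq_zero _).mpr fun p hp => ?_
    have hc : ∀ d j, j + d = k → (p : F[X]).coeff j = 0 := by
      intro d
      induction d using Nat.strong_induction_on with
      | _ d ih =>
        intro j hj
        have h1 := congrArg (K.ψ j) hp
        rw [hev, map_zero, map_sum, Finset.sum_eq_single j] at h1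
        · rw [map_smul, smul_eq_mul] at h1
          exact (mul_eq_zero.mp h1).resolve_right (K.iter (by omega) hM j (by omega)).2
        · intro l hl hne
          have hl' := Finset.mem_range.mp hl
          rcases lt_or_gt_of_ne hne with h | h
          · rw [map_smul, (K.iter (by omega) hM l (by omega)).1 j h (by omega), smul_zero]
          · rw [ih (k - l) (by omega) l (by omega), zero_smul, map_zero]
        · intro h
          exact absurd (Finset.mem_range.mpr (by omega)) h
    refine Subtype.ext (Polynomial.ext fun j => ?_)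
    rcases le_or_gt j k with h | h
    · exact hc (k - j) j (by omega)
    · show (p : F[X]).coeff j = (0 : F[X]).coeff j
      rw [coeff_zero, coeff_eq_zero_of_degree_lt ((mem_degreeLT.mp p.2).trans_le ?_)]
      exact_mod_cast (show n ≤ j by omega)
  haveI : FiniteDimensional F (degreeLT F n) := Module.Finite.equiv (degreeLTEquiv F n).symm
  have hdim : finrank F (degreeLT F n) = finrank F V := by
    rw [(degreeLTEquiv F n).finrank_eq, finrank_fin_fun, K.finrank_eq]
  let e : degreeLT F n ≃ₗ[F] V :=
    LinearEquiv.ofBijective ev ⟨hinj, (LinearMap.injective_iff_surjective_of_finrank_eq_finrank hdim).mp hinj⟩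
  have hg1 : g ≠ 1 := fun h => by rw [h, natDegree_one] at hgd; omega
  have hmem : ∀ p : F[X], p %ₘ g ∈ degreeLT F n := fun p =>
    mem_degreeLT.mpr ((degree_modByMonic_lt p hg).trans_le (by rw [degree_eq_natDegree hg.ne_zero, hgd]))
  let red : F[X] →ₗ[F] degreeLT F n := (modByMonicHom g).codRestrict _ hmem
  let M : Module.End F V :=
    e.toLinearMap.comp ((red.comp ((LinearMap.mulLeft F X).comp (degreeLT F n).subtype)).comp e.symm.toLinearMap)
  have hMe : ∀ p : F[X], M (e (red p)) = e (red (X * p)) := by
    intro p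
    have h1 : red (X * (p %ₘ g)) = red (X * p) := by
      refine Subtype.ext ?_
      show (X * (p %ₘ g)) %ₘ g = (X * p) %ₘ g
      refine modByMonic_eq_of_dvd_sub hg ?_
      rw [modByMonic_eq_sub_mul_div p g, ← mul_sub, sub_sub_cancel_left]
      exact ⟨-(X * (p /ₘ g)), by ring⟩
    simp only [M, LinearMap.comp_apply, LinearEquiv.coe_toLinearMap, LinearEquiv.symm_apply_apply,
      Submodule.subtype_apply, LinearMap.mulLeft_apply]
    rw [← h1]
    rfl
  have haev : ∀ p : F[X], aeval M p (e (red 1)) = e (red p) := by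
    intro p
    induction p using Polynomial.induction_on with
    | C a =>
      rw [aeval_C, Module.algebraMap_end_apply, ← map_smul, ← map_smul, smul_eq_C_mul, mul_one]
    | add p q hp hq => rw [map_add, LinearMap.add_apply, hp, hq, map_add, map_add]
    | monomial i a h =>
      rw [show C a * X ^ (i + 1) = X * (C a * X ^ i) by ring, map_mul, Module.End.mul_apply, aeval_X, h,
        hMe]
  have hself : ∀ (p : F[X]), p.degree < (n : WithBot ℕ) → e (red p) = aeval M0 p (K.b 0) := by
    intro p hp
    show aeval M0 (p %ₘ g) (K.b 0) = _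
    rw [(modByMonic_eq_self_iff hg).mpr (by rwa [degree_eq_natDegree hg.ne_zero, hgd])]
  have hb0 : e (red 1) = K.b 0 := by
    rw [hself 1 (by rw [degree_one]; exact_mod_cast (show 0 < n by omega)), map_one, Module.End.one_apply]
  rw [hb0] at haev
  have hpow : ∀ j ≤ k, (M ^ j) (K.b 0) = (M0 ^ j) (K.b 0) := by
    intro j hj
    have h1 := haev (X ^ j)
    rw [map_pow, aeval_X] at h1
    rw [h1, hself _ (by rw [degree_X_pow]; exact_mod_cast (show j < n by omega)), map_pow, aeval_X]
  refine ⟨M, fun j hj => ?_, ?_, ?_⟩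
  · -- `b j` is a combination of the first iterates
    induction j using Nat.strong_induction_on with
    | _ j ih =>
      have h1 := hpow (j + 1) (by omega)
      rw [pow_succ', pow_succ', Module.End.mul_apply, Module.End.mul_apply, hpow j (by omega),
        K.map_eq M, K.map_eq M0, ← sub_eq_zero, ← Finset.sum_sub_distrib] at h1
      rw [Finset.sum_eq_single j] at h1
      · rw [← smul_sub, smul_eq_zero, sub_eq_zero] at h1
        exact h1.resolve_left (K.iter (by omega) hM j (by omega)).2
      · intro l hl hne
        rcases lt_or_gt_of_ne hne with h | h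
        · rw [ih l h (by omega), sub_self]
        · rw [(K.iter (by omega) hM j (by omega)).1 l h (Finset.mem_range.mp hl), zero_smul, zero_smul,
            sub_self]
      · intro h
        exact absurd (Finset.mem_range.mpr (by omega)) h
  · rw [haev]
    have : red g = 0 := Subtype.ext (modByMonic_self hg)
    rw [this, map_zero]
  · refine Obj.cyc_of_dim (A := ⟨V, M⟩) hg (v := K.b 0) (fun p => ?_) (by rw [hgd]; exact K.finrank_eq)
    show aeval M p (K.b 0) = 0 ↔ _
    rw [haev, LinearEquiv.map_eq_zero_iff, ← modByMonic_eq_zero_iff_dvd hg]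
    exact ⟨fun h => congrArg Subtype.val h, fun h => Subtype.ext h⟩

/-- The triangular part. -/
theorem Coords.chain {t : ℕ} (ht : t ≤ n) {S : Module.End F V} (d : ℕ → F) (h0 : 0 < t → S (K.b 0) = d 0 • K.b 0)
    (hs : ∀ j, j + 1 < t → S (K.b (j + 1)) = d (j + 1) • K.b (j + 1) + K.b j) :
    ∀ j < t, (∀ p : F[X], aeval S p (K.b j) = 0 ↔ (∏ i ∈ Finset.range (j + 1), (X - C (d i))) ∣ p) ∧
      (∀ p : F[X], ∀ i, j < i → i < n → K.ψ i (aeval S p (K.b j)) = 0) ∧
      ∀ i ≤ j, ∃ p : F[X], aeval S p (K.b j) = K.b i := by
  intro j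
  induction j with
  | zero =>
    intro hj
    have hb : ∀ p : F[X], aeval S p (K.b 0) = p.eval (d 0) • K.b 0 := fun p => by
      induction p using Polynomial.induction_on with
      | C a => simp [Module.algebraMap_end_apply]
      | add p q hp hq => simp [hp, hq, add_smul]
      | monomial i a h =>
        rw [show C a * X ^ (i + 1) = X * (C a * X ^ i) by ring, map_mul, Module.End.mul_apply, aeval_X, h,
          map_smul, h0 hj, smul_smul, eval_mul, eval_mul, eval_X, eval_mul, mul_comm]
    refine ⟨fun p => ?_, fun p i hi hin => ?_, fun i hi => ⟨1, ?_⟩⟩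
    · rw [hb, Finset.prod_range_one, dvd_iff_isRoot]
      refine ⟨fun h => ?_, fun h => by rw [IsRoot.def] at h; rw [h, zero_smul]⟩
      have := congrArg (K.ψ 0) h
      simpa [K.dual 0 (by omega) 0 (by omega)] using this
    · rw [hb, map_smul, K.dual i hin 0 (by omega), if_neg (by omega), smul_zero]
    · rw [Nat.le_zero.mp hi, map_one, Module.End.one_apply]
  | succ j ih =>
    intro hj
    obtain ⟨h1, h2, h3⟩ := ih (by omega)
    have hstep : aeval S (X - C (d (j + 1))) (K.b (j + 1)) = K.b j := by
      simp [hs j hj, Module.algebraMap_end_apply]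
    have hdec : ∀ p : F[X], ∃ q : F[X], p = q * (X - C (d (j + 1))) + C (p.eval (d (j + 1))) ∧
        aeval S p (K.b (j + 1)) = aeval S q (K.b j) + p.eval (d (j + 1)) • K.b (j + 1) := by
      intro p
      obtain ⟨q, hq⟩ : X - C (d (j + 1)) ∣ p - C (p.eval (d (j + 1))) :=
        dvd_iff_isRoot.mpr (by simp [IsRoot.def])
      refine ⟨q, by linear_combination hq, ?_⟩
      have hp : p = q * (X - C (d (j + 1))) + C (p.eval (d (j + 1))) := by linear_combination hq
      conv_lhs => rw [hp]
      rw [map_add, map_mul, LinearMap.add_apply, Module.End.mul_apply, hstep, aeval_C,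
        Module.algebraMap_end_apply]
    refine ⟨fun p => ?_, fun p i hi hin => ?_, fun i hi => ?_⟩
    · obtain ⟨q, hpq, hq⟩ := hdec p
      rw [Finset.prod_range_succ]
      constructor
      · intro h
        have hc : p.eval (d (j + 1)) = 0 := by
          have := congrArg (K.ψ (j + 1)) (hq.symm.trans h)
          simpa [h2 q (j + 1) (by omega) (by omega), K.dual (j + 1) (by omega) (j + 1) (by omega)] using this
        rw [hc, map_zero, add_zero] at hpq
        rw [hc, zero_smul, add_zero] at hq
        rw [hpq]
        exact mul_dvd_mul_right ((h1 q).mp (hq.symm.trans h)) _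
      · rintro ⟨s, hs'⟩
        rw [hs', mul_assoc, mul_comm (X - C _) s, ← mul_assoc, map_mul, Module.End.mul_apply, hstep]
        exact (h1 _).mpr (dvd_mul_right _ _)
    · obtain ⟨q, -, hq⟩ := hdec p
      rw [hq, map_add, map_smul, h2 q i (by omega) hin, K.dual i hin (j + 1) (by omega), if_neg (by omega),
        smul_zero, add_zero]
    · rcases Nat.lt_succ_iff_lt_or_eq.mp (Nat.lt_succ_of_le hi) with h | h
      · obtain ⟨p, hp⟩ := h3 i (by omega)
        exact ⟨p * (X - C (d (j + 1))), by rw [map_mul, Module.End.mul_apply, hstep, hp]⟩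
      · exact ⟨1, by rw [map_one, Module.End.one_apply, h]⟩

end Cfsg.Agent.Classical.Thompson
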