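import Cfsg.Agent.Lib.Classical.Thompson.Factor

/-!
# Commutators from conversions
-/

set_option autoImplicit false

namespace Cfsg.Agent.Classical.Thompson

open Polynomial Module

universe u

variable {F : Type u} [Field F]

/-- `A` is a commutator of two endomorphisms of determinant one. -/
def Comm (A : Obj F) : Prop :=
  ∃ S X : Module.End F A.V, LinearMap.det S = 1 ∧ LinearMap.det X = 1 ∧ X * S = A.T * S * X

/-- `A` is the quotient of an endomorphism similar to `P'` by one similar to `P`. -/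
def Conv (A P P' : Obj F) : Prop :=
  ∃ S : Module.End F A.V, (⟨A.V, S⟩ : Obj F).Iso P ∧ (⟨A.V, A.T * S⟩ : Obj F).Iso P'

/-- Every determinant occurs in the centralizer. -/
def Full (P : Obj F) : Prop :=
  ∀ d : F, d ≠ 0 → ∃ Z : Module.End F P.V, Z * P.T = P.T * Z ∧ LinearMap.det Z = d

theorem Conv.mono {A P P' R R' : Obj F} (h : Conv A P P') (h1 : P.Iso R) (h2 : P'.Iso R') : Conv A R R' := by
  obtain ⟨S, hS, hS'⟩ := h
  exact ⟨S, hS.trans h1, hS'.trans h2⟩

theorem Conv.of_iso {A B P P' : Obj F} (hi : A.Iso B) (h : Conv A P P') : Conv B P P' := by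
  obtain ⟨S, hS, hS'⟩ := h
  obtain ⟨e, he⟩ := hi
  refine ⟨e.toLinearMap ∘ₗ S ∘ₗ e.symm.toLinearMap,
    Obj.Iso.trans (B := ⟨A.V, S⟩) ⟨e.symm, fun v => ?_⟩ hS,
    Obj.Iso.trans (B := ⟨A.V, A.T * S⟩) ⟨e.symm, fun v => ?_⟩ hS'⟩
  · show e.symm (e (S (e.symm v))) = S (e.symm v)
    simp
  · show e.symm (B.T (e (S (e.symm v)))) = A.T (S (e.symm v))
    rw [← he, e.symm_apply_apply]

theorem Conv.prod {A B P P' R R' : Obj F} (h : Conv A P P') (h' : Conv B R R') :
    Conv (A.prod B) (P.prod R) (P'.prod R') := by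
  obtain ⟨S, hS, hS'⟩ := h
  obtain ⟨T, hT, hT'⟩ := h'
  refine ⟨S.prodMap T, hS.prod hT, ?_⟩
  exact Obj.Iso.trans ⟨LinearEquiv.refl F _, fun _ => rfl⟩ (hS'.prod hT')

theorem Conv.det_eq {A P P' : Obj F} (h : Conv A P P') : A.det * P.det = P'.det := by
  obtain ⟨S, hS, hS'⟩ := h
  rw [← hS.det_eq, ← hS'.det_eq]
  exact (map_mul LinearMap.det A.T S).symm

theorem Full.of_iso {P R : Obj F} (hi : P.Iso R) (h : Full P) : Full R := by
  obtain ⟨e, he⟩ := hi
  intro d hd
  obtain ⟨Z, hZ, hdZ⟩ := h d hd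
  refine ⟨e.toLinearMap ∘ₗ Z ∘ₗ e.symm.toLinearMap, LinearMap.ext fun v => ?_, by rw [LinearMap.det_conj, hdZ]⟩
  show e (Z (e.symm (R.T v))) = R.T (e (Z (e.symm v)))
  rw [← he, show e.symm (R.T v) = P.T (e.symm v) from e.injective (by rw [he, e.apply_symm_apply, e.apply_symm_apply])]
  exact congrArg e (LinearMap.congr_fun hZ (e.symm v))

theorem Full.prod_left {P R : Obj F} (h : Full P) : Full (P.prod R) := by
  intro d hd
  obtain ⟨Z, hZ, hdZ⟩ := h d hd
  refine ⟨Z.prodMap LinearMap.id, ?_, by rw [LinearMap.det_prodMap, hdZ, LinearMap.det_id, mul_one]⟩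
  exact LinearMap.ext fun v => Prod.ext (LinearMap.congr_fun hZ v.1) rfl

/-- The main criterion. -/
theorem comm_of_conv {A P P' : Obj F} (h : Conv A P P') (hi : P.Iso P') (hd : P.det = 1) (hf : Full P) :
    Comm A := by
  obtain ⟨S, hS, hS'⟩ := h
  obtain ⟨e, he⟩ := hS.trans (hi.trans hS'.symm)
  have hed : LinearMap.det (e : A.V →ₗ[F] A.V) ≠ 0 := e.isUnit_det'.ne_zero
  obtain ⟨Z, hZ, hdZ⟩ := Full.of_iso hS.symm hf (LinearMap.det (e : A.V →ₗ[F] A.V))⁻¹ (inv_ne_zero hed)
  refine ⟨S, (e : A.V →ₗ[F] A.V) * Z, hS.det_eq.trans hd, ?_, ?_⟩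
  · rw [map_mul, hdZ, mul_inv_cancel₀ hed]
  · refine LinearMap.ext fun v => ?_
    show e (Z (S v)) = A.T (S (e (Z v)))
    rw [show Z (S v) = S (Z v) from LinearMap.congr_fun hZ v]
    exact he (Z v)

theorem Comm.of_iso {A B : Obj F} (hi : A.Iso B) (h : Comm A) : Comm B := by
  obtain ⟨e, he⟩ := hi
  obtain ⟨S, X, hS, hX, hXS⟩ := h
  refine ⟨e.toLinearMap ∘ₗ S ∘ₗ e.symm.toLinearMap, e.toLinearMap ∘ₗ X ∘ₗ e.symm.toLinearMap,
    by rw [LinearMap.det_conj, hS], by rw [LinearMap.det_conj, hX], LinearMap.ext fun v => ?_⟩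
  have := LinearMap.congr_fun hXS (e.symm v)
  show e (X (e.symm (e (S (e.symm v))))) = B.T (e (S (e.symm (e (X (e.symm v))))))
  rw [e.symm_apply_apply, e.symm_apply_apply, ← he]
  exact congrArg e this

theorem Comm.prod {A B : Obj F} (h : Comm A) (h' : Comm B) : Comm (A.prod B) := by
  obtain ⟨S, X, hS, hX, hXS⟩ := h
  obtain ⟨T, Y, hT, hY, hYT⟩ := h'
  refine ⟨S.prodMap T, X.prodMap Y, by rw [LinearMap.det_prodMap, hS, hT, one_mul],
    by rw [LinearMap.det_prodMap, hX, hY, one_mul], ?_⟩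
  exact LinearMap.ext fun v => Prod.ext (LinearMap.congr_fun hXS v.1) (LinearMap.congr_fun hYT v.2)

/-! ### Small objects -/

/-- A scalar on the line. -/
abbrev Lin (c : F) : Obj F := ⟨F, c • (LinearMap.id : F →ₗ[F] F)⟩

/-- The zero space. -/
abbrev Zero (F : Type u) [Field F] : Obj F := ⟨PUnit.{u + 1}, 0⟩

theorem det_Lin (c : F) : (Lin c).det = c := by
  simp [Obj.det]

theorem det_Zero : (Zero F).det = 1 :=
  LinearMap.det_eq_one_of_subsingleton _

theorem prod_zero (A : Obj F) : (A.prod (Zero F)).Iso A :=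
  ⟨LinearEquiv.prodUnique, fun _ => rfl⟩

theorem zero_prod (A : Obj F) : ((Zero F).prod A).Iso A :=
  (Obj.prod_comm _ _).trans (prod_zero A)

theorem cyc_Lin (c : F) : (Lin c).Cyc (X - C c) := by
  refine Obj.cyc_of_dim _ (monic_X_sub_C c) (1 : F) (fun p => ?_) (by rw [natDegree_X_sub_C]; exact Module.finrank_self F)
  have : aeval (Lin c).T p (1 : F) = p.eval c := by
    induction p using Polynomial.induction_on with
    | C a => simp [Module.algebraMap_end_apply]
    | add p q hp hq => simp [hp, hq]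
    | monomial i a h =>
      rw [show C a * X ^ (i + 1) = X * (C a * X ^ i) by ring, map_mul, Module.End.mul_apply, aeval_X, h,
        eval_mul, eval_mul, eval_X, eval_mul]
      simp
  rw [this, dvd_iff_isRoot, IsRoot.def]

theorem full_line (c : F) : Full (Lin c) := fun d _ =>
  ⟨d • LinearMap.id, LinearMap.ext fun v => by simp [mul_left_comm], by simp⟩

theorem full_Q_irreducible [Finite F] {h : F[X]} (hh : h.Monic) (hi : Irreducible h) : Full (Q h hh) := by
  intro d _
  haveI : Fact (Irreducible h) := ⟨hi⟩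
  haveI : FiniteDimensional F (AdjoinRoot h) := Module.Finite.of_basis (AdjoinRoot.powerBasis' hh).basis
  haveI : Finite (AdjoinRoot h) := Module.finite_of_finite F
  obtain ⟨z, hz⟩ := FiniteField.norm_surjective F (AdjoinRoot h) d
  refine ⟨LinearMap.mulLeft F z, LinearMap.ext fun v => ?_, ?_⟩
  · show z * (AdjoinRoot.root h * v) = AdjoinRoot.root h * (z * v)
    ring
  · rw [← hz, Algebra.norm_apply]
    rfl

/-! ### Chains -/

/-- Conversions moving a scalar token, with any determinant of the rest. -/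
def ChainFull (A : Obj F) : Prop :=
  ∀ e δ : F, e ≠ 0 → δ ≠ 0 → ∃ P : Obj F, P.det = δ ∧ Conv A ((Lin e).prod P) ((Lin (e * A.det)).prod P)

/-- Conversions moving a scalar token. -/
def ChainAny (A : Obj F) : Prop :=
  ∀ e : F, e ≠ 0 → ∃ P : Obj F, P.det ≠ 0 ∧ Conv A ((Lin e).prod P) ((Lin (e * A.det)).prod P)

theorem ChainFull.any {A : Obj F} (h : ChainFull A) : ChainAny A := fun e he => by
  obtain ⟨P, hP, hc⟩ := h e 1 he one_ne_zero
  exact ⟨P, by rw [hP]; exact one_ne_zero, hc⟩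

theorem Conv.chain {A B P R : Obj F} {e : F} (h : Conv A ((Lin e).prod P) ((Lin (e * A.det)).prod P))
    (h' : Conv B ((Lin (e * A.det)).prod R) ((Lin (e * A.det * B.det)).prod R)) :
    Conv (A.prod B) ((Lin e).prod ((Lin (e * A.det)).prod (P.prod R)))
      ((Lin (e * (A.prod B).det)).prod ((Lin (e * A.det)).prod (P.prod R))) := by
  refine (h.prod h').mono ((Obj.prod_four _ _ _ _).trans (Obj.prod_assoc _ _ _)) ?_
  rw [Obj.det_prod, mul_assoc e A.det B.det]
  exact ((Obj.prod_four _ _ _ _).trans (Obj.prod_assoc _ _ _)).trans (Obj.prod_left_comm _ _ _)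

theorem ChainFull.prod {A B : Obj F} (hA : A.det ≠ 0) (h : ChainFull A) (h' : ChainAny B) :
    ChainFull (A.prod B) := by
  intro e δ he hδ
  obtain ⟨R, hR0, hR⟩ := h' (e * A.det) (mul_ne_zero he hA)
  obtain ⟨P, hP, hc⟩ := h e (δ / (e * A.det * R.det)) he
    (div_ne_zero hδ (mul_ne_zero (mul_ne_zero he hA) hR0))
  refine ⟨_, ?_, hc.chain hR⟩
  rw [Obj.det_prod, Obj.det_prod, det_Lin, hP]
  field_simp

theorem ChainAny.prod {A B : Obj F} (hA : A.det ≠ 0) (h : ChainAny A) (h' : ChainAny B) :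
    ChainAny (A.prod B) := by
  intro e he
  obtain ⟨P, hP, hc⟩ := h e he
  obtain ⟨R, hR0, hR⟩ := h' (e * A.det) (mul_ne_zero he hA)
  refine ⟨_, ?_, hc.chain hR⟩
  rw [Obj.det_prod, Obj.det_prod, det_Lin]
  exact mul_ne_zero (mul_ne_zero he hA) (mul_ne_zero hP hR0)

theorem chainAny_of_iso {A B : Obj F} (hi : A.Iso B) (h : ChainAny A) : ChainAny B := fun e he => by
  obtain ⟨P, hP, hc⟩ := h e he
  exact ⟨P, hP, by rw [← hi.det_eq]; exact hc.of_iso hi⟩

theorem chainFull_of_iso {A B : Obj F} (hi : A.Iso B) (h : ChainFull A) : ChainFull B := fun e δ he hδ => by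
  obtain ⟨P, hP, hc⟩ := h e δ he hδ
  exact ⟨P, hP, by rw [← hi.det_eq]; exact hc.of_iso hi⟩

theorem ChainFull.comm {A : Obj F} (hd : A.det = 1) (h : ChainFull A) : Comm A := by
  obtain ⟨P, hP, hc⟩ := h 1 1 one_ne_zero one_ne_zero
  rw [hd, mul_one] at hc
  exact comm_of_conv hc (Obj.Iso.refl _) (by rw [Obj.det_prod, det_Lin, hP, one_mul]) (full_line _).prod_left

theorem chainAny_Lin (c : F) : ChainAny (Lin c) := by
  intro e _
  refine ⟨Zero F, by rw [det_Zero]; exact one_ne_zero, Conv.mono (P := Lin e) (P' := Lin (e * c)) ?_ (prod_zero _).symm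
    (by rw [det_Lin]; exact (prod_zero _).symm)⟩
  refine ⟨e • LinearMap.id, Obj.Iso.refl _, ⟨LinearEquiv.refl F F, fun v => ?_⟩⟩
  show c • (e • v) = (e * c) • v
  simp only [smul_eq_mul]
  ring

/-! ### Cyclic blocks -/

/-- Conversion of a cyclic block with a split first factor. -/
theorem conv_linear {A : Obj F} {a : F[X]} (ha : a.Monic) (hA : A.Cyc a) (hdet : A.det ≠ 0) {t : ℕ}
    (hdeg : a.natDegree = t + 1) (d : ℕ → F) (hd : ∀ i < t, d i ≠ 0) (e : F)
    (he' : ∀ i < t, d i ≠ e ∧ d i ≠ e * A.det) :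
    Conv A ((Lin e).prod (Q _ (monic_prod_linear (t := t) d)))
      ((Lin (e * A.det)).prod (Q _ (monic_prod_linear (t := t) d))) := by
  classical
  obtain ⟨R, hR⟩ : ∃ R, R = ∏ i ∈ Finset.range t, (X - C (d i)) := ⟨_, rfl⟩
  have hRm : R.Monic := hR ▸ monic_prod_linear d
  have hRd : R.natDegree = t := hR ▸ natDegree_prod_linear d
  have hD : ∏ i ∈ Finset.range t, d i ≠ 0 := Finset.prod_ne_zero_iff.mpr fun i hi => hd i (Finset.mem_range.mp hi)
  have hev : ∀ x : F, (∀ i < t, d i ≠ x) → R.eval x ≠ 0 := by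
    intro x hx
    rw [hR, eval_prod]
    exact Finset.prod_ne_zero_iff.mpr fun i hi => by
      rw [eval_sub, eval_X, eval_C, sub_ne_zero]
      exact (hx i (Finset.mem_range.mp hi)).symm
  have hgm : (R * (X - C (e * A.det))).Monic := hRm.mul (monic_X_sub_C _)
  obtain ⟨S, hS, e', he, hSf⟩ := factor_linear ha hA hdet hdeg d hd _ hgm
    (by rw [hRm.natDegree_mul (monic_X_sub_C _), hRd, natDegree_X_sub_C])
  have hee : e' = e := by
    have h0 := coeff_zero_prod_linear (t := t) d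
    rw [← hR] at h0
    rw [mul_coeff_zero, coeff_sub, coeff_X_zero, coeff_C_zero, pow_succ] at he
    have h1 : A.det * (∏ i ∈ Finset.range t, d i) * (e' - e) = 0 := by
      linear_combination he + e * A.det * h0
    exact sub_eq_zero.mp ((mul_eq_zero.mp h1).resolve_left (mul_ne_zero hdet hD))
  subst hee
  rw [← hR] at hSf
  have hiso : ∀ x : F, R.eval x ≠ 0 → ∀ (B : Obj F), B.Cyc (R * (X - C x)) →
      B.Iso ((Lin x).prod (Q _ (monic_prod_linear (t := t) d))) := by
    intro x hx B hB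
    have hcop : IsCoprime R (X - C x) := by
      refine IsCoprime.symm ((irreducible_X_sub_C x).coprime_iff_not_dvd.mpr ?_)
      rw [dvd_iff_isRoot]
      exact hx
    subst hR
    exact (hB.iso (((cyc_Q _ (monic_prod_linear d)).prod (cyc_Lin x) hcop))).trans (Obj.prod_comm _ _)
  exact ⟨S, hiso _ (hev _ fun i hi => (he' i hi).1) _ (hSf (hev _ fun i hi => (he' i hi).1)),
    hiso _ (hev _ fun i hi => (he' i hi).2) _ hS⟩

theorem irreducible_quadratic {τ N : F} (h : ∀ x : F, x ^ 2 - τ * x + N ≠ 0) :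
    Irreducible (X ^ 2 - C τ * X + C N : F[X]) := by
  have hdeg : (X ^ 2 - C τ * X + C N : F[X]).natDegree = 2 := by compute_degree!
  rw [Polynomial.irreducible_iff_roots_eq_zero_of_degree_le_three (by omega) (by omega)]
  refine Multiset.eq_zero_of_forall_notMem fun x hx => h x ?_
  have := (mem_roots'.mp hx).2
  simpa [IsRoot.def] using this

theorem monic_quadratic (τ N : F) : (X ^ 2 - C τ * X + C N : F[X]).Monic := by monicity!

theorem natDegree_quadratic (τ N : F) : (X ^ 2 - C τ * X + C N : F[X]).natDegree = 2 := by compute_degree!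

theorem coeff_zero_quadratic (τ N : F) : (X ^ 2 - C τ * X + C N : F[X]).coeff 0 = N := by simp

theorem exists_quadratic [Finite F] {N : F} (hN : N ≠ 0) :
    ∃ τ : F, ∀ x : F, x ^ 2 - τ * x + N ≠ 0 := by
  classical
  cases nonempty_fintype F
  have hns : ¬ Function.Surjective (fun x : {x : F // x ≠ 0} => (x : F) + N / x) := by
    intro hs
    have h1 := Fintype.card_le_of_surjective _ hs
    have h2 : Fintype.card {x : F // x ≠ 0} < Fintype.card F :=
      Fintype.card_subtype_lt (x := 0) (by simp)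
    omega
  simp only [Function.Surjective, not_forall, not_exists] at hns
  obtain ⟨τ, hτ⟩ := hns
  refine ⟨τ, fun x hx => ?_⟩
  have hx0 : x ≠ 0 := by
    rintro rfl
    simp at hx
    exact hN hx
  refine hτ ⟨x, hx0⟩ ?_
  show x + N / x = τ
  field_simp
  linear_combination hx

/-- Conversion of a cyclic block with a quadratic factor at the bottom. -/
theorem conv_quadratic {A : Obj F} {a : F[X]} (ha : a.Monic) (hA : A.Cyc a) (hdet : A.det ≠ 0) {t : ℕ}
    (ht : 0 < t) (hdeg : a.natDegree = t + 2) (d : ℕ → F) (hd : ∀ i < t, d i ≠ 0) (τ N : F)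
    (hirr : ∀ x : F, x ^ 2 - τ * x + N ≠ 0) (g : F[X]) (hg : g.Monic) (hgd : g.natDegree = t + 2)
    (hN : A.det * ((∏ i ∈ Finset.range t, d i) * N) = (-1) ^ t * g.coeff 0) :
    Conv A ((Q _ (monic_prod_linear (t := t) d)).prod (Q _ (monic_quadratic τ N))) (Q g hg) := by
  classical
  have hD : ∏ i ∈ Finset.range t, d i ≠ 0 := Finset.prod_ne_zero_iff.mpr fun i hi => hd i (Finset.mem_range.mp hi)
  obtain ⟨S, hS, N', hN', hSf⟩ := factor_quadratic ha hA hdet ht hdeg d hd τ g hg hgd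
  have hNN : N' = N := mul_left_cancel₀ hD (mul_left_cancel₀ hdet (hN'.trans hN.symm))
  rw [hNN] at hSf
  have hcop : IsCoprime (∏ i ∈ Finset.range t, (X - C (d i))) (X ^ 2 - C τ * X + C N) := by
    refine IsCoprime.prod_left fun i _ => ?_
    refine (irreducible_X_sub_C (d i)).coprime_iff_not_dvd.mpr ?_
    rw [dvd_iff_isRoot, IsRoot.def]
    have := hirr (d i)
    simpa using this
  exact ⟨S, (hSf hcop).iso ((cyc_Q _ _).prod (cyc_Q _ _) hcop), hS.iso_Q hg⟩

/-- Blocks of size at least three are fully flexible, given one free scalar. -/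
theorem chainFull_cyc [Finite F] {A : Obj F} {a : F[X]} (ha : a.Monic) (hA : A.Cyc a) (hdet : A.det ≠ 0)
    (hdeg : 3 ≤ a.natDegree) (hc : a.natDegree = 3 ∨ ∀ x y : F, ∃ c : F, c ≠ 0 ∧ c ≠ x ∧ c ≠ y) :
    ChainFull A := by
  classical
  intro e δ he hδ
  obtain ⟨s, hs⟩ : ∃ s, a.natDegree = s + 1 + 2 := ⟨a.natDegree - 3, by omega⟩
  obtain ⟨c, hc0, hce⟩ : ∃ c : F, c ≠ 0 ∧ (0 < s → c ≠ e ∧ c ≠ e * A.det) := by
    rcases hc with hc | hc
    · exact ⟨1, one_ne_zero, fun h => by omega⟩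
    · obtain ⟨c, h0, h1, h2⟩ := hc e (e * A.det)
      exact ⟨c, h0, fun _ => ⟨h1, h2⟩⟩
  obtain ⟨τ, hτ⟩ := exists_quadratic (F := F) (N := δ / c ^ s) (div_ne_zero hδ (pow_ne_zero _ hc0))
  obtain ⟨N, hN⟩ : ∃ N, N = δ / c ^ s := ⟨_, rfl⟩
  rw [← hN] at hτ
  let d : ℕ → F := fun i => if i < s then c else e
  have hD : ∏ i ∈ Finset.range (s + 1), d i = c ^ s * e := by
    rw [Finset.prod_range_succ, Finset.prod_congr rfl (fun i hi => if_pos (Finset.mem_range.mp hi))]
    simp [d]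
  let R : F[X] := ∏ i ∈ Finset.range s, (X - C ((fun _ => c) i))
  have hR : R.Monic := monic_prod_linear _
  have hR0 : (-1 : F) ^ s * R.coeff 0 = c ^ s := by
    have := coeff_zero_prod_linear (F := F) (t := s) (fun _ => c)
    rw [Finset.prod_const (M := F), Finset.card_range] at this
    exact this
  have hRd : R.natDegree = s := natDegree_prod_linear _
  have hsplit : ∏ i ∈ Finset.range (s + 1), (X - C (d i)) = R * (X - C e) := by
    rw [Finset.prod_range_succ]
    refine congr (congrArg _ (Finset.prod_congr rfl fun i hi => ?_)) (by simp [d])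
    simp [d, Finset.mem_range.mp hi]
  let h : F[X] := X ^ 2 - C τ * X + C N
  have hh : h.Monic := monic_quadratic τ N
  have hg : (R * (X - C (e * A.det)) * h).Monic := (hR.mul (monic_X_sub_C _)).mul hh
  have key := conv_quadratic ha hA hdet (t := s + 1) (by omega) hs d
    (fun i _ => by simp only [d]; split_ifs <;> assumption) τ N hτ _ hg
    (by rw [(hR.mul (monic_X_sub_C _)).natDegree_mul hh, hR.natDegree_mul (monic_X_sub_C _), hRd,
      natDegree_X_sub_C, natDegree_quadratic])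
    (by
      rw [hD, mul_coeff_zero, mul_coeff_zero, coeff_sub, coeff_X_zero, coeff_C_zero, pow_succ,
        show h.coeff 0 = N from coeff_zero_quadratic τ N]
      linear_combination (-(e * A.det * N)) * hR0)
  have hcopR : ∀ x : F, (0 < s → c ≠ x) → IsCoprime R (X - C x) := by
    intro x hx
    refine IsCoprime.prod_left fun i hi => ?_
    refine (irreducible_X_sub_C c).coprime_iff_not_dvd.mpr ?_
    rw [dvd_iff_isRoot, IsRoot.def, eval_sub, eval_X, eval_C, sub_eq_zero]
    exact hx (by have := Finset.mem_range.mp hi; omega)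
  have hcoph : ∀ x : F, IsCoprime (X - C x) h := by
    intro x
    refine (irreducible_X_sub_C x).coprime_iff_not_dvd.mpr ?_
    rw [dvd_iff_isRoot, IsRoot.def]
    simpa [h] using hτ x
  refine ⟨(Q R hR).prod (Q h hh), ?_, key.mono ?_ ?_⟩
  · rw [Obj.det_prod, det_Q, det_Q, hRd, hR0, natDegree_quadratic,
      show h.coeff 0 = N from coeff_zero_quadratic τ N, neg_one_sq, one_mul, hN]
    field_simp
  · refine Obj.Iso.trans ?_ (Obj.prod_assoc _ _ _)
    refine Obj.Iso.prod ?_ (Obj.Iso.refl _)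
    refine ((cyc_Q _ (monic_prod_linear (t := s + 1) d)).iso ?_).trans (Obj.prod_comm (Q R hR) (Lin e))
    rw [hsplit]
    exact (cyc_Q R hR).prod (cyc_Lin e) (hcopR e fun hs => (hce hs).1)
  · refine Obj.Iso.trans ((cyc_Q _ hg).iso ((((cyc_Q R hR).prod (cyc_Lin (e * A.det))
      (hcopR _ fun hs => (hce hs).2))).prod (cyc_Q h hh) ?_)) ?_
    · refine IsCoprime.mul_left ?_ (hcoph _)
      exact IsCoprime.prod_left fun i _ => hcoph c
    · exact ((Obj.prod_comm (Q R hR) (Lin (e * A.det))).prod (Obj.Iso.refl _)).trans (Obj.prod_assoc _ _ _)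

theorem chainAny_cyc [Finite F] (hcard : ∀ x y : F, ∃ c : F, c ≠ 0 ∧ c ≠ x ∧ c ≠ y) {A : Obj F} {a : F[X]}
    (ha : a.Monic) (hA : A.Cyc a) (hdet : A.det ≠ 0) (hdeg : 0 < a.natDegree) : ChainAny A := by
  intro e _
  obtain ⟨c, hc0, hc1, hc2⟩ := hcard e (e * A.det)
  refine ⟨_, ?_, conv_linear ha hA hdet (t := a.natDegree - 1) (by omega) (fun _ => c) (fun _ _ => hc0) e
    (fun _ _ => ⟨hc1, hc2⟩)⟩
  rw [det_Q, natDegree_prod_linear, coeff_zero_prod_linear]
  simp [hc0]

end Cfsg.Agent.Classical.Thompson
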