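import Cfsg.Agent.Lib.Classical.Thompson.Special

/-!
# Decomposition into primary cyclic blocks
-/

set_option autoImplicit false

namespace Cfsg.Agent.Classical.Thompson

open Polynomial Module

universe u

variable {F : Type u} [Field F]

/-- A primary block. -/
structure Blk (F : Type u) [Field F] where
  p : F[X]
  e : ℕ
  monic : p.Monic
  irr : Irreducible p
  pos : 0 < e

noncomputable abbrev Blk.f (b : Blk F) : F[X] := b.p ^ b.e

theorem Blk.f_monic (b : Blk F) : b.f.Monic := b.monic.pow b.e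

theorem Blk.deg_pos (b : Blk F) : 0 < b.f.natDegree := by
  rw [natDegree_pow]
  exact Nat.mul_pos b.pos b.irr.natDegree_pos

noncomputable abbrev Blk.obj (b : Blk F) : Obj F := Q b.f b.f_monic

/-- The direct sum of a list of blocks. -/
noncomputable def bigSum : List (Blk F) → Obj F
  | [] => Zero F
  | b :: l => b.obj.prod (bigSum l)

theorem bigSum_cons (b : Blk F) (l : List (Blk F)) : bigSum (b :: l) = b.obj.prod (bigSum l) := rfl

theorem bigSum_perm {l l' : List (Blk F)} (h : l.Perm l') : (bigSum l).Iso (bigSum l') := by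
  induction h with
  | nil => exact Obj.Iso.refl _
  | cons x _ ih => exact (Obj.Iso.refl _).prod ih
  | swap x y l => exact Obj.prod_left_comm _ _ _
  | trans _ _ ih1 ih2 => exact ih1.trans ih2

theorem bigSum_append : ∀ l l' : List (Blk F), (bigSum (l ++ l')).Iso ((bigSum l).prod (bigSum l'))
  | [], l' => (zero_prod _).symm
  | b :: l, l' => ((Obj.Iso.refl _).prod (bigSum_append l l')).trans (Obj.prod_assoc _ _ _).symm

theorem bigSum_const (b : Blk F) {P : Obj F} (hP : b.obj.Iso P) :
    ∀ l : List (Blk F), (∀ c ∈ l, c.f = b.f) → (bigSum l).Iso (Pow P l.length)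
  | [], _ => Obj.Iso.refl _
  | c :: l, h => by
    have hc : c.obj.Iso b.obj := (cyc_Q c.f c.f_monic).iso (by rw [h c (by simp)]; exact cyc_Q _ _)
    exact (hc.trans hP).prod (bigSum_const b hP l fun x hx => h x (List.mem_cons_of_mem _ hx))

theorem bigSum_pick {l : List (Blk F)} {b : Blk F} (hb : b ∈ l) :
    ∃ r : List (Blk F), l.Perm (b :: r) := by
  classical
  exact ⟨l.erase b, List.perm_cons_erase hb⟩

theorem bigSum_pick_two {l : List (Blk F)} {b c : Blk F} (hb : b ∈ l) (hc : c ∈ l) (hbc : b.f ≠ c.f) :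
    ∃ r : List (Blk F), l.Perm (b :: c :: r) := by
  classical
  have hc' : c ∈ l.erase b := (List.mem_erase_of_ne (fun e => hbc (by rw [e]))).mpr hc
  exact ⟨(l.erase b).erase c, (List.perm_cons_erase hb).trans ((List.perm_cons_erase hc').cons b)⟩

/-- The family of blocks as one space. -/
noncomputable abbrev piObj {m : ℕ} (b : Fin m → Blk F) : Obj F :=
  haveI : ∀ i, FiniteDimensional F (b i).obj.V := fun i => (b i).obj.fd
  ⟨∀ i, (b i).obj.V, LinearMap.pi fun i => (b i).obj.T.comp (LinearMap.proj i)⟩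

theorem piObj_iso : ∀ {m : ℕ} (b : Fin m → Blk F), (piObj b).Iso (bigSum (List.ofFn b))
  | 0, b => by
    refine ⟨{ toFun := fun _ => PUnit.unit, invFun := fun _ i => i.elim0, map_add' := fun _ _ => rfl,
              map_smul' := fun _ _ => rfl, left_inv := fun v => funext fun i => i.elim0,
              right_inv := fun _ => rfl }, fun _ => rfl⟩
  | m + 1, b => by
    rw [List.ofFn_succ, bigSum_cons]
    refine Obj.Iso.trans (B := (b 0).obj.prod (piObj fun i => b i.succ)) ?_
      ((Obj.Iso.refl _).prod (piObj_iso fun i => b i.succ))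
    exact ⟨{ toFun := fun v => (v 0, fun i => v i.succ), invFun := fun x => Fin.cons x.1 x.2,
             map_add' := fun _ _ => rfl, map_smul' := fun _ _ => rfl,
             left_inv := fun v => Fin.cons_self_tail v,
             right_inv := fun x => Prod.ext (by simp) (funext fun i => by simp) },
      fun _ => rfl⟩

/-- Every endomorphism is a sum of primary blocks. -/
theorem exists_bigSum (A : Obj F) : ∃ l : List (Blk F), A.Iso (bigSum l) := by
  classical
  obtain ⟨κ, _, p, hp, e, ⟨Φ⟩⟩ := Module.equiv_directSum_of_isTorsion (R := F[X]) (M := Module.AEval' A.T)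
    (Module.AEval.isTorsion_of_finiteDimensional F A.V A.T)
  let Ψ := Φ.trans (DirectSum.linearEquivFunOnFintype F[X] κ _)
  let ι := {i : κ // 0 < e i}
  let σ : Fin (Fintype.card ι) ≃ ι := (Fintype.equivFin ι).symm
  have hmon : ∀ i, ∃ q : F[X], q.Monic ∧ Associated q (p i) := fun i => by
    obtain ⟨u, hu⟩ : ∃ u, u = C (p i).leadingCoeff⁻¹ := ⟨_, rfl⟩
    refine ⟨p i * u, by rw [hu]; exact monic_mul_leadingCoeff_inv (hp i).ne_zero, ?_⟩
    exact (associated_mul_unit_right (p i) u (by
      rw [hu]; exact isUnit_C.mpr (Ne.isUnit (inv_ne_zero (leadingCoeff_ne_zero.mpr (hp i).ne_zero))))).symm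
  choose q hqm hqp using hmon
  let b : Fin (Fintype.card ι) → Blk F := fun k =>
    ⟨q (σ k).1, e (σ k).1, hqm _, (hqp _).irreducible_iff.mpr (hp _), (σ k).2⟩
  have hspan : ∀ k, (Submodule.span F[X] {p (σ k).1 ^ e (σ k).1} : Ideal F[X]) = Ideal.span {(b k).f} := fun k =>
    Ideal.span_singleton_eq_span_singleton.mpr ((hqp _).pow_pow).symm
  let φ : ∀ k, A.V →ₗ[F] (b k).obj.V := fun k =>
    (((Submodule.quotEquivOfEq _ _ (hspan k)).toLinearMap.comp
      ((LinearMap.proj (R := F[X]) (φ := fun i => F[X] ⧸ Submodule.span F[X] {p i ^ e i}) (σ k).1).comp Ψ.toLinearMap)).restrictScalars F).comp (Module.AEval'.of A.T).toLinearMap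
  have hφT : ∀ k v, φ k (A.T v) = (b k).obj.T (φ k v) := by
    intro k v
    show (Submodule.quotEquivOfEq _ _ (hspan k)) (Ψ (Module.AEval'.of A.T (A.T v)) (σ k).1) =
      (b k).obj.T ((Submodule.quotEquivOfEq _ _ (hspan k)) (Ψ (Module.AEval'.of A.T v) (σ k).1))
    rw [← Module.AEval'.X_smul_of, map_smul, Pi.smul_apply, map_smul]
    obtain ⟨y, hy⟩ := Submodule.Quotient.mk_surjective _
      ((Submodule.quotEquivOfEq _ _ (hspan k)) (Ψ (Module.AEval'.of A.T v) (σ k).1))
    rw [← hy]
    rfl
  refine ⟨List.ofFn b, Obj.Iso.trans (B := piObj b) ⟨LinearEquiv.ofBijective (LinearMap.pi φ) ⟨?_, ?_⟩,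
    fun v => funext fun k => hφT k v⟩ (piObj_iso b)⟩
  · refine (injective_iff_map_eq_zero _).mpr fun v hv => (Module.AEval'.of A.T).injective (Ψ.injective ?_)
    rw [map_zero, map_zero]
    funext i
    rcases Nat.eq_zero_or_pos (e i) with hi | hi
    · have : Subsingleton (F[X] ⧸ Submodule.span F[X] {p i ^ e i}) :=
        Submodule.Quotient.subsingleton_iff.mpr (by rw [hi, pow_zero]; exact Ideal.span_singleton_one)
      exact Subsingleton.elim _ _
    · obtain ⟨k, hk⟩ := σ.surjective ⟨i, hi⟩
      have h1 : φ k v = 0 := congrFun hv k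
      have h2 : Ψ (Module.AEval'.of A.T v) (σ k).1 = 0 :=
        (Submodule.quotEquivOfEq _ _ (hspan k)).injective (h1.trans (map_zero _).symm)
      rw [hk] at h2
      exact h2
  · intro w
    let z : ∀ i, F[X] ⧸ Submodule.span F[X] {p i ^ e i} := fun i =>
      if h : 0 < e i then
        (show (σ (σ.symm ⟨i, h⟩)).1 = i by rw [σ.apply_symm_apply]) ▸
          (Submodule.quotEquivOfEq _ _ (hspan (σ.symm ⟨i, h⟩))).symm (w (σ.symm ⟨i, h⟩))
      else 0
    refine ⟨(Module.AEval'.of A.T).symm (Ψ.symm z), funext fun k => ?_⟩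
    show (Submodule.quotEquivOfEq _ _ (hspan k)) (Ψ (Module.AEval'.of A.T ((Module.AEval'.of A.T).symm (Ψ.symm z))) (σ k).1) = w k
    rw [LinearEquiv.apply_symm_apply, LinearEquiv.apply_symm_apply]
    refine (LinearEquiv.eq_symm_apply _).mp ?_
    have hz : ∀ (j : Fin (Fintype.card ι)) (hj : (σ j).1 = (σ k).1),
        hj ▸ (Submodule.quotEquivOfEq _ _ (hspan j)).symm (w j) =
          (Submodule.quotEquivOfEq _ _ (hspan k)).symm (w k) := by
      intro j hj
      obtain rfl : j = k := σ.injective (Subtype.ext hj)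
      rfl
    simp only [z, dif_pos (σ k).2]
    exact hz _ _

theorem not_coprime_same {b c : Blk F} (h : ¬ IsCoprime b.f c.f) : b.p = c.p := by
  by_contra hne
  refine h (IsCoprime.pow ((b.irr.coprime_iff_not_dvd).mpr fun hd => hne ?_))
  exact eq_of_monic_of_associated b.monic c.monic (b.irr.associated_of_dvd c.irr hd)

/-- A summand of size at least three, or a standard form. -/
def Standard (A : Obj F) : Prop :=
  (∃ (a : F[X]) (ha : a.Monic) (R : Obj F), 3 ≤ a.natDegree ∧ A.Iso ((Q a ha).prod R)) ∨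
    ∃ (lam : F) (a : F[X]) (ha : a.Monic) (s t : ℕ), a.natDegree = 2 ∧ (s = 0 ∨ t = 0 ∨ a.eval lam = 0) ∧
      A.Iso ((Pow (Lin lam) s).prod (Pow (Q a ha) t))

theorem pow_pair_iso {lam μ : F} (h : lam ≠ μ) :
    ∀ y, ((Pow (Lin lam) y).prod (Pow (Lin μ) y)).Iso
      (Pow (Q _ ((monic_X_sub_C lam).mul (monic_X_sub_C μ))) y)
  | 0 => zero_prod _
  | y + 1 => by
    refine (Obj.prod_four _ _ _ _).trans (Obj.Iso.prod ?_ (pow_pair_iso h y))
    exact ((cyc_Lin lam).prod (cyc_Lin μ) (isCoprime_X_sub_C_of_isUnit_sub (sub_ne_zero.mpr h).isUnit)).iso_Q _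

/-- Classification. -/
theorem standard (A : Obj F) : Standard A := by
  classical
  obtain ⟨l, hl⟩ := exists_bigSum A
  by_cases hbig : ∃ b ∈ l, 3 ≤ b.f.natDegree
  · obtain ⟨b, hb, hd⟩ := hbig
    obtain ⟨r, hr⟩ := bigSum_pick hb
    exact Or.inl ⟨b.f, b.f_monic, bigSum r, hd, hl.trans (bigSum_perm hr)⟩
  push Not at hbig
  by_cases hpair : ∃ b ∈ l, ∃ c ∈ l, IsCoprime b.f c.f ∧ 3 ≤ b.f.natDegree + c.f.natDegree
  · obtain ⟨b, hb, c, hc, hcop, hd⟩ := hpair
    have hne : b.f ≠ c.f := by
      intro e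
      rw [← e, isCoprime_self] at hcop
      have := natDegree_eq_zero_of_isUnit hcop
      have := b.deg_pos
      omega
    obtain ⟨r, hr⟩ := bigSum_pick_two hb hc hne
    refine Or.inl ⟨b.f * c.f, b.f_monic.mul c.f_monic, bigSum r, ?_, hl.trans ((bigSum_perm hr).trans ?_)⟩
    · rwa [b.f_monic.natDegree_mul c.f_monic]
    · exact (Obj.prod_assoc _ _ _).symm.trans ((Q_mul_iso _ _ hcop).symm.prod (Obj.Iso.refl _))
  push Not at hpair
  by_cases h2 : ∃ b ∈ l, b.f.natDegree = 2
  · obtain ⟨b, hb, hbd⟩ := h2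
    let P : Blk F → Bool := fun c => decide (c.f = b.f)
    obtain ⟨lam, hlam⟩ : ∃ lam : F, ∀ c ∈ l, c.f ≠ b.f → c.f = X - C lam ∧ b.f.eval lam = 0 := by
      by_cases hex : ∃ c ∈ l, c.f ≠ b.f
      · have hall : ∀ c ∈ l, c.f ≠ b.f → c.f = b.p ∧ b.p.natDegree = 1 := by
          intro c hc hne
          have hd := hbig c hc
          have := c.deg_pos
          have hsame := not_coprime_same (b := b) (c := c) (fun h => by
            have := hpair b hb c hc h
            omega)
          have h1 : c.f.natDegree = c.e * c.p.natDegree := natDegree_pow _ _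
          have h2 : b.f.natDegree = b.e * b.p.natDegree := natDegree_pow _ _
          rw [← hsame] at h1
          have hne' : c.e ≠ b.e := fun e => hne (by simp only [Blk.f, ← hsame, e])
          have hp1 : b.p.natDegree = 1 := by
            have h3 : b.p.natDegree ≤ 2 := by
              calc b.p.natDegree ≤ b.e * b.p.natDegree := Nat.le_mul_of_pos_left _ b.pos
                _ = 2 := by omega
            rcases Nat.lt_or_ge b.p.natDegree 2 with h | h
            · have := b.irr.natDegree_pos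
              omega
            · rw [show b.p.natDegree = 2 by omega] at h1 h2
              exact absurd (by omega : c.e = b.e) hne'
          rw [hp1] at h1 h2
          refine ⟨?_, hp1⟩
          simp only [Blk.f, ← hsame]
          rw [show c.e = 1 by omega, pow_one]
        obtain ⟨c, hc, hne⟩ := hex
        obtain ⟨-, hp1⟩ := hall c hc hne
        refine ⟨-b.p.coeff 0, fun d hd hne => ⟨?_, ?_⟩⟩
        · rw [(hall d hd hne).1]
          conv_lhs => rw [eq_X_add_C_of_natDegree_le_one hp1.le]
          rw [show b.p.coeff 1 = 1 from hp1 ▸ b.monic, C_1, one_mul, map_neg, sub_neg_eq_add]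
        · rw [eval_pow]
          conv_lhs => rw [eq_X_add_C_of_natDegree_le_one hp1.le]
          rw [show b.p.coeff 1 = 1 from hp1 ▸ b.monic]
          simp [Nat.pos_iff_ne_zero.mp b.pos]
      · exact ⟨0, fun c hc hne => absurd ⟨c, hc, hne⟩ hex⟩
    refine Or.inr ⟨lam, b.f, b.f_monic, (l.filter fun c => !P c).length, (l.filter P).length, hbd, ?_, ?_⟩
    · by_cases hs : (l.filter fun c => !P c).length = 0
      · exact Or.inl hs
      · obtain ⟨c, hc⟩ := List.exists_mem_of_length_pos (Nat.pos_of_ne_zero hs)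
        simp [P] at hc
        exact Or.inr (Or.inr (hlam c hc.1 hc.2).2)
    · refine hl.trans ((bigSum_perm (List.filter_append_perm P l).symm).trans ((bigSum_append _ _).trans
        ((Obj.prod_comm _ _).trans (Obj.Iso.prod ?_ ?_))))
      · by_cases hs : (l.filter fun c => !P c).length = 0
        · rw [List.length_eq_zero_iff.mp hs]
          exact Obj.Iso.refl _
        · obtain ⟨c, hc⟩ := List.exists_mem_of_length_pos (Nat.pos_of_ne_zero hs)
          have hc' := hc
          simp [P] at hc'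
          refine bigSum_const c ((cyc_Q c.f c.f_monic).iso ?_) _ fun d hd => ?_
          · rw [(hlam c hc'.1 hc'.2).1]
            exact cyc_Lin lam
          · simp [P] at hd
            rw [(hlam c hc'.1 hc'.2).1, (hlam d hd.1 hd.2).1]
      · exact bigSum_const b (Obj.Iso.refl _) _ fun d hd => by simpa [P] using (List.mem_filter.mp hd).2
  · push Not at h2
    have hlin : ∀ b ∈ l, ∃ c : F, b.f = X - C c := by
      intro b hb
      have := hbig b hb
      have := h2 b hb
      have := b.deg_pos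
      refine ⟨-b.f.coeff 0, ?_⟩
      conv_lhs => rw [eq_X_add_C_of_natDegree_le_one (show b.f.natDegree ≤ 1 by omega)]
      rw [show b.f.coeff 1 = 1 from (show b.f.natDegree = 1 by omega) ▸ b.f_monic, C_1, one_mul, map_neg,
        sub_neg_eq_add]
    by_cases hne : l = []
    · subst hne
      exact Or.inr ⟨1, X ^ 2, monic_X_pow 2, 0, 0, natDegree_X_pow 2, Or.inl rfl,
        hl.trans (zero_prod _).symm⟩
    obtain ⟨b, hb⟩ := List.exists_mem_of_ne_nil l hne
    obtain ⟨lam, hlam⟩ := hlin b hb
    let P : Blk F → Bool := fun c => decide (c.f = b.f)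
    have hsplit := hl.trans ((bigSum_perm (List.filter_append_perm P l).symm).trans (bigSum_append _ _))
    have hP : (bigSum (l.filter P)).Iso (Pow (Lin lam) (l.filter P).length) := by
      refine bigSum_const b ((cyc_Q b.f b.f_monic).iso ?_) _ fun d hd => by
        simpa [P] using (List.mem_filter.mp hd).2
      rw [hlam]; exact cyc_Lin lam
    by_cases hex : (l.filter fun c => !P c) = []
    · rw [hex] at hsplit
      exact Or.inr ⟨lam, X ^ 2, monic_X_pow 2, (l.filter P).length, 0, natDegree_X_pow 2, Or.inr (Or.inl rfl),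
        hsplit.trans (hP.prod (Obj.Iso.refl _))⟩
    obtain ⟨c, hc⟩ := List.exists_mem_of_ne_nil _ hex
    have hc' := hc
    simp [P] at hc'
    obtain ⟨μ, hμ⟩ := hlin c hc'.1
    have hne' : lam ≠ μ := fun e => hc'.2 (by rw [hμ, hlam, e])
    by_cases h3 : ∃ d ∈ l, d.f ≠ b.f ∧ d.f ≠ c.f
    · obtain ⟨d, hd, hdb, hdc⟩ := h3
      obtain ⟨ν, hν⟩ := hlin d hd
      obtain ⟨r, hr⟩ : ∃ r, l.Perm (b :: c :: d :: r) := by
        have hc2 : c ∈ l.erase b := (List.mem_erase_of_ne (fun e => hc'.2 (by rw [e]))).mpr hc'.1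
        have hd2 : d ∈ (l.erase b).erase c := (List.mem_erase_of_ne (fun e => hdc (by rw [e]))).mpr
          ((List.mem_erase_of_ne (fun e => hdb (by rw [e]))).mpr hd)
        exact ⟨((l.erase b).erase c).erase d, (List.perm_cons_erase hb).trans
          (((List.perm_cons_erase hc2).trans ((List.perm_cons_erase hd2).cons c)).cons b)⟩
      have hcd : IsCoprime c.f d.f := by
        rw [hμ, hν]
        exact isCoprime_X_sub_C_of_isUnit_sub (sub_ne_zero.mpr fun e => hdc (by rw [hμ, hν, e])).isUnit
      have hb' : IsCoprime b.f (c.f * d.f) := by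
        refine IsCoprime.mul_right ?_ ?_ <;> rw [hlam]
        · rw [hμ]; exact isCoprime_X_sub_C_of_isUnit_sub (sub_ne_zero.mpr hne').isUnit
        · rw [hν]; exact isCoprime_X_sub_C_of_isUnit_sub (sub_ne_zero.mpr fun e => hdb (by rw [hlam, hν, e])).isUnit
      refine Or.inl ⟨b.f * (c.f * d.f), b.f_monic.mul (c.f_monic.mul d.f_monic), bigSum r, ?_,
        hl.trans ((bigSum_perm hr).trans ?_)⟩
      · rw [b.f_monic.natDegree_mul (c.f_monic.mul d.f_monic), c.f_monic.natDegree_mul d.f_monic]
        have := b.deg_pos; have := c.deg_pos; have := d.deg_pos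
        omega
      · refine ((Obj.Iso.refl _).prod (Obj.prod_assoc _ _ _).symm).trans ((Obj.prod_assoc _ _ _).symm.trans ?_)
        exact (((Obj.Iso.refl _).prod (Q_mul_iso _ _ hcd).symm).trans (Q_mul_iso _ _ hb').symm).prod (Obj.Iso.refl _)
    push Not at h3
    have hQ : (bigSum (l.filter fun c => !P c)).Iso (Pow (Lin μ) (l.filter fun c => !P c).length) := by
      refine bigSum_const c ((cyc_Q c.f c.f_monic).iso ?_) _ fun d hd => ?_
      · rw [hμ]; exact cyc_Lin μ
      · simp [P] at hd
        exact h3 d hd.1 hd.2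
    have hA := hsplit.trans (hP.prod hQ)
    revert hA
    generalize (l.filter P).length = x
    generalize (l.filter fun c => !P c).length = y
    intro hA
    rcases le_total y x with hxy | hxy
    · obtain ⟨s, rfl⟩ : ∃ s, x = s + y := ⟨x - y, by omega⟩
      refine Or.inr ⟨lam, _, (monic_X_sub_C lam).mul (monic_X_sub_C μ), s, y, ?_, Or.inr (Or.inr (by simp)), ?_⟩
      · rw [(monic_X_sub_C lam).natDegree_mul (monic_X_sub_C μ), natDegree_X_sub_C, natDegree_X_sub_C]
      · exact (hA.trans ((pow_add_iso _ _ _).prod (Obj.Iso.refl _))).trans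
          ((Obj.prod_assoc _ _ _).trans ((Obj.Iso.refl _).prod (pow_pair_iso hne' y)))
    · obtain ⟨s, rfl⟩ : ∃ s, y = s + x := ⟨y - x, by omega⟩
      refine Or.inr ⟨μ, _, (monic_X_sub_C μ).mul (monic_X_sub_C lam), s, x, ?_, Or.inr (Or.inr (by simp)), ?_⟩
      · rw [(monic_X_sub_C μ).natDegree_mul (monic_X_sub_C lam), natDegree_X_sub_C, natDegree_X_sub_C]
      · exact (hA.trans (Obj.prod_comm _ _)).trans (((pow_add_iso _ _ _).prod (Obj.Iso.refl _)).trans
          ((Obj.prod_assoc _ _ _).trans ((Obj.Iso.refl _).prod (pow_pair_iso hne'.symm x))))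

end Cfsg.Agent.Classical.Thompson
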