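import Cfsg.Agent.Lib.Classical.Thompson.Build

/-!
# A cyclic endomorphism as a quotient of two cyclic endomorphisms
-/

set_option autoImplicit false

namespace Cfsg.Agent.Classical.Thompson

open Polynomial Module

universe u

variable {F : Type u} [Field F]

/-- The cyclic subspace of a vector. -/
noncomputable def gen (A : Obj F) (v : A.V) : Submodule F A.V :=
  LinearMap.range ((LinearMap.applyₗ v).comp (aeval A.T).toLinearMap)

theorem mem_gen {A : Obj F} {v w : A.V} : w ∈ gen A v ↔ ∃ p : F[X], aeval A.T p v = w := Iff.rfl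

theorem gen_invariant (A : Obj F) (v : A.V) : gen A v ≤ (gen A v).comap A.T := by
  rintro w hw
  obtain ⟨p, rfl⟩ := mem_gen.mp hw
  exact mem_gen.mpr ⟨X * p, by rw [map_mul, Module.End.mul_apply, aeval_X]⟩

/-- Extensions of one cyclic endomorphism by another. -/
theorem Obj.ext_cyc {A : Obj F} {R h : F[X]} (hR : R.Monic) (hh : h.Monic) (u b : A.V)
    (hu : ∀ p : F[X], aeval A.T p u = 0 ↔ R ∣ p) (hb : aeval A.T h b ∈ gen A u)
    (hb' : ∀ p : F[X], aeval A.T p b ∈ gen A u → h ∣ p)
    (hd : finrank F A.V = R.natDegree + h.natDegree) :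
    A.det = ((-1) ^ R.natDegree * R.coeff 0) * ((-1) ^ h.natDegree * h.coeff 0) ∧
      (IsCoprime R h ∨ aeval A.T h b = u → A.Cyc (R * h)) := by
  classical
  refine ⟨?_, fun hc => ?_⟩
  · let W := gen A u
    have hW := gen_invariant A u
    let AW : Obj F := ⟨W, A.T.restrict hW⟩
    let AQ : Obj F := ⟨A.V ⧸ W, W.mapQ W A.T hW⟩
    have hintW : ∀ (p : F[X]) (x : W), ((aeval AW.T p x : W) : A.V) = aeval A.T p (x : A.V) := fun p x =>
      aeval_intertwine (A := AW) (B := A) W.subtype (fun _ => rfl) p x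
    have hu1 : u ∈ W := mem_gen.mpr ⟨1, by rw [map_one, Module.End.one_apply]⟩
    have hcW : AW.Cyc R := by
      refine ⟨⟨u, mem_gen.mpr ⟨1, by rw [map_one, Module.End.one_apply]⟩⟩, fun p => ?_, fun w => ?_⟩
      · rw [← hu p]
        exact (Submodule.coe_eq_zero).symm.trans (Iff.of_eq (congrArg (· = 0) (hintW p ⟨u, hu1⟩)))
      · obtain ⟨p, hp⟩ := mem_gen.mp w.2
        exact ⟨p, Subtype.ext ((hintW p _).trans hp)⟩
    have hintQ : ∀ (p : F[X]) (x : A.V), W.mkQ (aeval A.T p x) = aeval AQ.T p (W.mkQ x) := fun p x =>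
      aeval_intertwine (A := A) (B := AQ) W.mkQ (fun _ => rfl) p x
    have hcQ : AQ.Cyc h := by
      refine Obj.cyc_of_dim AQ hh (W.mkQ b) (fun p => ?_) ?_
      · rw [← hintQ, Submodule.mkQ_apply, Submodule.Quotient.mk_eq_zero]
        refine ⟨hb' p, ?_⟩
        rintro ⟨s, rfl⟩
        obtain ⟨r, hr⟩ := mem_gen.mp hb
        exact mem_gen.mpr ⟨s * r, by rw [map_mul, Module.End.mul_apply, hr, mul_comm h s, map_mul,
          Module.End.mul_apply]⟩
      · have h1 := Submodule.finrank_quotient_add_finrank W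
        have h2 : finrank F W = R.natDegree := hcW.finrank_eq hR
        show finrank F (A.V ⧸ W) = _
        omega
    rw [← hcW.det_eq hR, ← hcQ.det_eq hh]
    exact LinearMap.det_eq_det_mul_det W A.T hW
  · obtain ⟨r, hr⟩ := mem_gen.mp hb
    obtain ⟨q, hq⟩ : ∃ q : F[X], aeval A.T h (b + aeval A.T q u) = u := by
      rcases hc with ⟨a, c, hac⟩ | hc
      · refine ⟨c * (1 - r), ?_⟩
        rw [map_add, ← hr, ← Module.End.mul_apply, ← map_mul, ← LinearMap.add_apply, ← map_add,
          show r + h * (c * (1 - r)) = 1 + (a * (r - 1)) * R by linear_combination (1 - r) * hac,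
          map_add, map_one, map_mul, LinearMap.add_apply, Module.End.one_apply, Module.End.mul_apply,
          (hu R).mpr dvd_rfl, map_zero, add_zero]
      · exact ⟨0, by rw [map_zero, LinearMap.zero_apply, add_zero, hc]⟩
    refine Obj.cyc_of_dim A (hR.mul hh) (b + aeval A.T q u) (fun p => ?_) (by rw [hd, hR.natDegree_mul hh])
    constructor
    · intro hp
      have hin : aeval A.T p b ∈ gen A u := by
        rw [map_add, ← eq_neg_iff_add_eq_zero] at hp
        rw [hp]
        refine (gen A u).neg_mem (mem_gen.mpr ⟨p * q, ?_⟩)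
        rw [map_mul, Module.End.mul_apply]
      obtain ⟨s, rfl⟩ := hb' p hin
      rw [mul_comm h s, map_mul, Module.End.mul_apply, hq, hu] at hp
      rw [mul_comm R h]
      exact mul_dvd_mul_left h hp
    · rintro ⟨s, rfl⟩
      rw [mul_comm R h, mul_assoc, mul_comm h, map_mul, Module.End.mul_apply, hq, hu]
      exact dvd_mul_right R s

/-- The iterates of a generating vector form a coordinate system. -/
theorem Obj.Cyc.coords {A : Obj F} {a : F[X]} (ha : a.Monic) (h : A.Cyc a) (hdet : A.det ≠ 0) {n : ℕ}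
    (hn : n = a.natDegree) :
    ∃ K : Coords F A.V n, (∀ j, j + 1 < n → A.T (K.b j) = K.b (j + 1)) ∧
      (0 < n → K.ψ 0 (A.T (K.b (n - 1))) ≠ 0) := by
  classical
  have hd := h.finrank_eq ha
  obtain ⟨v, hv, -⟩ := h
  rw [← hn] at hd
  let ev : (Fin n → F) →ₗ[F] A.V :=
    ((LinearMap.applyₗ v).comp (aeval A.T).toLinearMap).comp
      ((degreeLT F n).subtype.comp (degreeLTEquiv F n).symm.toLinearMap)
  have hinj : Function.Injective ev := by
    refine (injective_iff_map_eq_zero _).mpr fun f hf => ?_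
    have h1 : a ∣ ((degreeLTEquiv F n).symm f : F[X]) := (hv _).mp hf
    have h2 : ((degreeLTEquiv F n).symm f : F[X]) = 0 := by
      refine eq_zero_of_dvd_of_degree_lt h1 ?_
      rw [degree_eq_natDegree ha.ne_zero, ← hn]
      exact mem_degreeLT.mp ((degreeLTEquiv F n).symm f).2
    exact (degreeLTEquiv F n).symm.map_eq_zero_iff.mp (Subtype.ext h2)
  have hdim : finrank F (Fin n → F) = finrank F A.V := by rw [finrank_fin_fun, hd]
  let e : (Fin n → F) ≃ₗ[F] A.V :=
    LinearEquiv.ofBijective ev ⟨hinj, (LinearMap.injective_iff_surjective_of_finrank_eq_finrank hdim).mp hinj⟩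
  let B : Module.Basis (Fin n) F A.V := Module.Basis.ofEquivFun (R := F) e.symm
  have hB : ∀ i : Fin n, B i = aeval A.T ((X : F[X]) ^ (i : ℕ)) v := by
    intro i
    rw [Module.Basis.coe_ofEquivFun]
    show aeval A.T (((degreeLTEquiv F n).symm (Pi.single i (1 : F)) : degreeLT F n) : F[X]) v = _
    congr 2
    refine Polynomial.ext fun (j : ℕ) => ?_
    rw [coeff_X_pow]
    by_cases hj : j < n
    · have := congrFun ((degreeLTEquiv F n).apply_symm_apply (Pi.single i 1)) ⟨j, hj⟩
      change (((degreeLTEquiv F n).symm (Pi.single i 1) : degreeLT F n) : F[X]).coeff j = _ at this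
      rw [this, Pi.single_apply]
      simp [Fin.ext_iff]
    · rw [if_neg (by have := i.2; omega), coeff_eq_zero_of_degree_lt]
      exact ((mem_degreeLT.mp ((degreeLTEquiv F n).symm (Pi.single i 1)).2)).trans_le
        (by exact_mod_cast (show n ≤ j by omega))
  refine ⟨Coords.ofBasis B, fun j hj => ?_, fun hn0 hzero => ?_⟩
  · show A.T (if h : j < n then B ⟨j, h⟩ else 0) = if h : j + 1 < n then B ⟨j + 1, h⟩ else 0
    rw [dif_pos (by omega), dif_pos hj, hB, hB, pow_succ', map_mul, Module.End.mul_apply, aeval_X]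
  · let K := Coords.ofBasis B
    have hbij : Function.Surjective A.T :=
      (LinearEquiv.ofIsUnitDet (v := Module.finBasis F A.V) (v' := Module.finBasis F A.V) (f := A.T)
        (by rw [LinearMap.det_toMatrix]; exact isUnit_iff_ne_zero.mpr hdet)).surjective
    obtain ⟨y, hy⟩ := hbij (K.b 0)
    have h1 := congrArg (K.ψ 0) hy
    rw [K.map_eq A.T, map_sum, K.dual 0 hn0 0 hn0, if_pos rfl] at h1
    refine one_ne_zero (h1.symm.trans (Finset.sum_eq_zero fun l hl => ?_))
    have hl' := Finset.mem_range.mp hl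
    rw [map_smul]
    rcases Nat.lt_or_ge (l + 1) n with h | h
    · show _ • (Coords.ofBasis B).ψ 0 (A.T (if h : l < n then B ⟨l, h⟩ else 0)) = _
      rw [dif_pos hl', hB]
      have : A.T (aeval A.T ((X : F[X]) ^ l) v) = (Coords.ofBasis B).b (l + 1) := by
        show _ = if h : l + 1 < n then B ⟨l + 1, h⟩ else 0
        rw [dif_pos h, hB, pow_succ', map_mul, Module.End.mul_apply, aeval_X]
      rw [this, (Coords.ofBasis B).dual 0 hn0 (l + 1) h, if_neg (by omega), smul_zero]
    · rw [show l = n - 1 by omega, hzero, smul_zero]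

theorem coeff_zero_prod_linear {t : ℕ} (d : ℕ → F) :
    (-1 : F) ^ t * (∏ i ∈ Finset.range t, (X - C (d i))).coeff 0 = ∏ i ∈ Finset.range t, d i := by
  have h1 : (∏ i ∈ Finset.range t, (X - C (d i))).coeff 0 = (-1) ^ t * ∏ i ∈ Finset.range t, d i := by
    rw [coeff_zero_eq_eval_zero, eval_prod]
    simp [Finset.prod_neg]
  rw [h1, ← mul_assoc, ← mul_pow, neg_one_mul, neg_neg, one_pow, one_mul]

theorem monic_prod_linear {t : ℕ} (d : ℕ → F) : (∏ i ∈ Finset.range t, (X - C (d i))).Monic :=
  monic_prod_of_monic _ _ fun i _ => monic_X_sub_C (d i)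

theorem natDegree_prod_linear {t : ℕ} (d : ℕ → F) :
    (∏ i ∈ Finset.range t, (X - C (d i))).natDegree = t := by
  rw [natDegree_prod_of_monic _ _ fun i _ => monic_X_sub_C (d i)]
  simp

/-- A cyclic map times a triangular map. -/
theorem factor_linear {A : Obj F} {a : F[X]} (ha : a.Monic) (hA : A.Cyc a) (hdet : A.det ≠ 0) {t : ℕ}
    (hdeg : a.natDegree = t + 1) (d : ℕ → F) (hd : ∀ i < t, d i ≠ 0) (g : F[X]) (hg : g.Monic)
    (hgd : g.natDegree = t + 1) :
    ∃ S : Module.End F A.V, (⟨A.V, A.T * S⟩ : Obj F).Cyc g ∧ ∃ e : F,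
      A.det * ((∏ i ∈ Finset.range t, d i) * e) = (-1) ^ (t + 1) * g.coeff 0 ∧
      ((∏ i ∈ Finset.range t, (X - C (d i))).eval e ≠ 0 →
        (⟨A.V, S⟩ : Obj F).Cyc ((∏ i ∈ Finset.range t, (X - C (d i))) * (X - C e))) := by
  classical
  obtain ⟨K, hK1, hK2⟩ := hA.coords ha hdet hdeg.symm
  let S0 : Module.End F A.V := ∑ j ∈ Finset.range t,
    (K.ψ j).smulRight (d j • K.b j + if j = 0 then 0 else K.b (j - 1))
  have hS0 : ∀ j < t, S0 (K.b j) = d j • K.b j + if j = 0 then 0 else K.b (j - 1) := by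
    intro j hj
    simp only [S0, LinearMap.sum_apply, LinearMap.smulRight_apply]
    rw [Finset.sum_eq_single j, K.dual j (by omega) j (by omega), if_pos rfl, one_smul]
    · intro i hi hne
      rw [K.dual i (by have := Finset.mem_range.mp hi; omega) j (by omega), if_neg hne, zero_smul]
    · intro h
      exact absurd (Finset.mem_range.mpr hj) h
  have hM0 : ∀ j < t, (A.T * S0) (K.b j) = d j • K.b (j + 1) + if j = 0 then 0 else K.b j := by
    intro j hj
    rw [Module.End.mul_apply, hS0 j hj, map_add, map_smul, hK1 j (by omega)]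
    split_ifs with h
    · rw [map_zero]
    · rw [hK1 (j - 1) (by omega), show j - 1 + 1 = j by omega]
  have hH : K.Hess t (A.T * S0) := by
    intro j hj
    refine ⟨fun i hi hin => ?_, ?_⟩
    · rw [hM0 j hj, map_add, map_smul, K.dual i hin (j + 1) (by omega), if_neg (by omega), smul_zero, zero_add]
      split_ifs
      · exact map_zero _
      · rw [K.dual i hin j (by omega), if_neg (by omega)]
    · rw [hM0 j hj, map_add, map_smul, K.dual (j + 1) (by omega) (j + 1) (by omega), if_pos rfl]
      have : K.ψ (j + 1) (if j = 0 then (0 : A.V) else K.b j) = 0 := by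
        split_ifs
        · exact map_zero _
        · rw [K.dual (j + 1) (by omega) j (by omega), if_neg (by omega)]
      rw [this, add_zero, smul_eq_mul, mul_one]
      exact hd j hj
  obtain ⟨M, hM, -, hMc⟩ := K.complete rfl hH g hg hgd
  let Ai : A.V ≃ₗ[F] A.V := LinearEquiv.ofIsUnitDet (v := Module.finBasis F A.V) (v' := Module.finBasis F A.V)
    (f := A.T) (by rw [LinearMap.det_toMatrix]; exact isUnit_iff_ne_zero.mpr hdet)
  have hAi : ∀ x, Ai x = A.T x := fun x => rfl
  refine ⟨Ai.symm.toLinearMap.comp M, ?_, K.ψ t ((Ai.symm.toLinearMap.comp M) (K.b t)), ?_⟩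
  · have : A.T * Ai.symm.toLinearMap.comp M = M := LinearMap.ext fun x => by
      show A.T (Ai.symm (M x)) = M x
      rw [← hAi, Ai.apply_symm_apply]
    rw [this]
    exact hMc
  obtain ⟨S, hS⟩ : ∃ S, S = Ai.symm.toLinearMap.comp M := ⟨_, rfl⟩
  rw [← hS]
  have hAS : A.T * S = M := LinearMap.ext fun x => by
    rw [hS]
    show A.T (Ai.symm (M x)) = M x
    rw [← hAi, Ai.apply_symm_apply]
  have hSj : ∀ j < t, S (K.b j) = d j • K.b j + if j = 0 then 0 else K.b (j - 1) := by
    intro j hj
    rw [← hS0 j hj, hS]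
    show Ai.symm (M (K.b j)) = _
    rw [hM j hj, Module.End.mul_apply, ← hAi, Ai.symm_apply_apply]
  obtain ⟨e, he⟩ : ∃ e, e = K.ψ t (S (K.b t)) := ⟨_, rfl⟩
  rw [← he]
  have hMdet : A.det * (⟨A.V, S⟩ : Obj F).det = (-1) ^ (t + 1) * g.coeff 0 := by
    have := hMc.det_eq hg
    rw [hgd] at this
    rw [← this]
    show LinearMap.det A.T * LinearMap.det S = LinearMap.det M
    rw [← hAS, map_mul]
  rcases Nat.eq_zero_or_pos t with ht | ht
  · subst ht
    have hS1 : S = e • LinearMap.id := LinearMap.ext fun x => by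
      rw [K.map_eq S x, LinearMap.smul_apply, LinearMap.id_apply]
      conv_rhs => rw [K.expand x]
      rw [Finset.sum_range_one, Finset.sum_range_one, K.expand (S (K.b 0)), Finset.sum_range_one,
        he, smul_smul, smul_smul, mul_comm]
    have hc : (⟨A.V, S⟩ : Obj F).Cyc (X - C e) := by
      refine Obj.cyc_of_dim _ (monic_X_sub_C e) (K.b 0) (fun p => ?_)
        (by rw [natDegree_X_sub_C]; exact K.finrank_eq)
      have : aeval S p (K.b 0) = p.eval e • K.b 0 := by
        induction p using Polynomial.induction_on with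
        | C c => simp [Module.algebraMap_end_apply]
        | add p q hp hq => simp [hp, hq, add_smul]
        | monomial i c h =>
          rw [show C c * X ^ (i + 1) = X * (C c * X ^ i) by ring, map_mul, Module.End.mul_apply, aeval_X, h,
            map_smul, hS1, LinearMap.smul_apply, LinearMap.id_apply, smul_smul, eval_mul, eval_mul, eval_X,
            eval_mul, mul_comm]
      show aeval S p (K.b 0) = 0 ↔ _
      rw [this, dvd_iff_isRoot, IsRoot.def]
      refine ⟨fun h => ?_, fun h => by rw [h, zero_smul]⟩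
      have := congrArg (K.ψ 0) h
      simpa [K.dual 0 (by omega) 0 (by omega)] using this
    refine ⟨?_, fun _ => by simpa using hc⟩
    rw [← hMdet, hc.det_eq (monic_X_sub_C e)]
    simp
  · have hch := K.chain (t := t) (by omega) (S := S) d (fun _ => by rw [hSj 0 ht]; simp)
      (fun j hj => by rw [hSj (j + 1) hj]; simp) (t - 1) (by omega)
    rw [show t - 1 + 1 = t by omega] at hch
    obtain ⟨h1, h2, h3⟩ := hch
    have hmem : ∀ x : A.V, x ∈ gen (⟨A.V, S⟩ : Obj F) (K.b (t - 1)) ↔ K.ψ t x = 0 := by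
      intro x
      constructor
      · intro hx
        obtain ⟨p, rfl⟩ := mem_gen.mp hx
        exact h2 p t (by omega) (by omega)
      · intro hx
        rw [K.expand x]
        refine Submodule.sum_mem _ fun i hi => ?_
        have hi' := Finset.mem_range.mp hi
        rcases Nat.lt_or_ge i t with h | h
        · obtain ⟨p, hp⟩ := h3 i (by omega)
          exact Submodule.smul_mem _ _ (mem_gen.mpr ⟨p, hp⟩)
        · rw [show i = t by omega, hx, zero_smul]
          exact Submodule.zero_mem _
    have hmod : ∀ p : F[X], K.ψ t (aeval S p (K.b t)) = p.eval e := by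
      intro p
      induction p using Polynomial.induction_on with
      | C c => simp [Module.algebraMap_end_apply, K.dual t (by omega) t (by omega)]
      | add p q hp hq => simp [hp, hq]
      | monomial i c h =>
        rw [show C c * X ^ (i + 1) = X * (C c * X ^ i) by ring, map_mul, Module.End.mul_apply, aeval_X]
        generalize hw : aeval S (C c * X ^ i) (K.b t) = w at h
        have h1 : K.ψ t (S w) = ∑ l ∈ Finset.range (t + 1), K.ψ l w * K.ψ t (S (K.b l)) :=
          K.map_eq ((K.ψ t).comp S) w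
        rw [h1, Finset.sum_eq_single t, h, ← he, eval_mul, eval_mul, eval_X, eval_mul, mul_comm]
        · intro l hl hne
          rw [(hmem _).mp (gen_invariant (⟨A.V, S⟩ : Obj F) _
            (mem_gen.mpr (h3 l (by have := Finset.mem_range.mp hl; omega)))), mul_zero]
        · intro hh
          exact absurd (Finset.mem_range.mpr (by omega)) hh
    have hext := Obj.ext_cyc (A := ⟨A.V, S⟩) (monic_prod_linear d) (monic_X_sub_C e) (K.b (t - 1)) (K.b t) h1
      ((hmem _).mpr (by rw [hmod]; simp))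
      (fun p hp => dvd_iff_isRoot.mpr (by rw [IsRoot.def, ← hmod]; exact (hmem _).mp hp))
      (by rw [natDegree_prod_linear, natDegree_X_sub_C]; exact K.finrank_eq)
    refine ⟨?_, fun hne => hext.2 (Or.inl ?_)⟩
    · rw [← hMdet, hext.1, natDegree_prod_linear, coeff_zero_prod_linear, natDegree_X_sub_C]
      simp
    · refine IsCoprime.symm ((irreducible_X_sub_C e).coprime_iff_not_dvd.mpr ?_)
      rw [dvd_iff_isRoot]
      exact hne

/-- A cyclic map times a map with an irreducible quadratic factor. -/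
theorem factor_quadratic {A : Obj F} {a : F[X]} (ha : a.Monic) (hA : A.Cyc a) (hdet : A.det ≠ 0) {t : ℕ}
    (ht : 0 < t) (hdeg : a.natDegree = t + 2) (d : ℕ → F) (hd : ∀ i < t, d i ≠ 0) (τ : F) (g : F[X])
    (hg : g.Monic) (hgd : g.natDegree = t + 2) :
    ∃ S : Module.End F A.V, (⟨A.V, A.T * S⟩ : Obj F).Cyc g ∧ ∃ N : F,
      A.det * ((∏ i ∈ Finset.range t, d i) * N) = (-1) ^ t * g.coeff 0 ∧
      (IsCoprime (∏ i ∈ Finset.range t, (X - C (d i))) (X ^ 2 - C τ * X + C N) →
        (⟨A.V, S⟩ : Obj F).Cyc ((∏ i ∈ Finset.range t, (X - C (d i))) * (X ^ 2 - C τ * X + C N))) := by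
  classical
  obtain ⟨K, hK1, hK2⟩ := hA.coords ha hdet hdeg.symm
  have hc0 : K.ψ 0 (A.T (K.b (t + 1))) ≠ 0 := hK2 (by omega)
  obtain ⟨c0, hc0e⟩ : ∃ c, c = K.ψ 0 (A.T (K.b (t + 1))) := ⟨_, rfl⟩
  rw [← hc0e] at hc0
  obtain ⟨p, hp⟩ : ∃ p, p = 1 - K.ψ (t + 1) (A.T (K.b (t + 1))) := ⟨_, rfl⟩
  let S0 : Module.End F A.V := (∑ j ∈ Finset.range t,
    (K.ψ j).smulRight (d j • K.b j + if j = 0 then 0 else K.b (j - 1))) +
      (K.ψ t).smulRight (p • K.b t + K.b (t + 1))
  let Sz : F → Module.End F A.V := fun z => S0 + (K.ψ t).smulRight (z • K.b (t - 1))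
  have hS0 : ∀ z, ∀ j < t, Sz z (K.b j) = d j • K.b j + if j = 0 then 0 else K.b (j - 1) := by
    intro z j hj
    simp only [Sz, S0, LinearMap.add_apply, LinearMap.sum_apply, LinearMap.smulRight_apply]
    rw [Finset.sum_eq_single j, K.dual j (by omega) j (by omega), if_pos rfl, one_smul,
      K.dual t (by omega) j (by omega), if_neg (show ¬t = j by omega), zero_smul, zero_smul, add_zero, add_zero]
    · intro i hi hne
      rw [K.dual i (by have := Finset.mem_range.mp hi; omega) j (by omega), if_neg hne, zero_smul]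
    · intro h
      exact absurd (Finset.mem_range.mpr hj) h
  have hS0t : ∀ z, Sz z (K.b t) = p • K.b t + K.b (t + 1) + z • K.b (t - 1) := by
    intro z
    simp only [Sz, S0, LinearMap.add_apply, LinearMap.sum_apply, LinearMap.smulRight_apply]
    rw [Finset.sum_eq_zero, zero_add, K.dual t (by omega) t (by omega), if_pos rfl, one_smul, one_smul]
    intro i hi
    rw [K.dual i (by have := Finset.mem_range.mp hi; omega) t (by omega),
      if_neg (by have := Finset.mem_range.mp hi; omega), zero_smul]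
  have hM0 : ∀ z, ∀ j < t, (A.T * Sz z) (K.b j) = d j • K.b (j + 1) + if j = 0 then 0 else K.b j := by
    intro z j hj
    rw [Module.End.mul_apply, hS0 z j hj, map_add, map_smul, hK1 j (by omega)]
    split_ifs with h
    · rw [map_zero]
    · rw [hK1 (j - 1) (by omega), show j - 1 + 1 = j by omega]
  have hM0t : ∀ z, (A.T * Sz z) (K.b t) = p • K.b (t + 1) + A.T (K.b (t + 1)) + z • K.b t := by
    intro z
    rw [Module.End.mul_apply, hS0t, map_add, map_add, map_smul, map_smul, hK1 t (by omega),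
      hK1 (t - 1) (by omega), show t - 1 + 1 = t by omega]
  have hR1 : ∀ z, K.ψ (t + 1) ((A.T * Sz z) (K.b t)) = 1 := by
    intro z
    rw [hM0t, map_add, map_add, map_smul, map_smul, K.dual (t + 1) (by omega) (t + 1) (by omega), if_pos rfl,
      K.dual (t + 1) (by omega) t (by omega), if_neg (by omega), smul_zero, add_zero, smul_eq_mul, mul_one,
      hp, sub_add_cancel]
  have hH : ∀ z, K.Hess (t + 1) (A.T * Sz z) := by
    intro z j hj
    rcases Nat.lt_or_ge j t with h | h
    · refine ⟨fun i hi hin => ?_, ?_⟩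
      · rw [hM0 z j h, map_add, map_smul, K.dual i hin (j + 1) (by omega), if_neg (by omega), smul_zero,
          zero_add]
        split_ifs
        · exact map_zero _
        · rw [K.dual i hin j (by omega), if_neg (by omega)]
      · rw [hM0 z j h, map_add, map_smul, K.dual (j + 1) (by omega) (j + 1) (by omega), if_pos rfl]
        have : K.ψ (j + 1) (if j = 0 then (0 : A.V) else K.b j) = 0 := by
          split_ifs
          · exact map_zero _
          · rw [K.dual (j + 1) (by omega) j (by omega), if_neg (by omega)]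
        rw [this, add_zero, smul_eq_mul, mul_one]
        exact hd j h
    · rw [show j = t by omega]
      exact ⟨fun i hi hin => by omega, by rw [hR1]; exact one_ne_zero⟩
  obtain ⟨w, hw⟩ : ∃ w, w = ((A.T * Sz 0) ^ t) (K.b 0) := ⟨_, rfl⟩
  obtain ⟨α, hα⟩ : ∃ c, c = K.ψ t w := ⟨_, rfl⟩
  have hα0 : α ≠ 0 := by rw [hα, hw]; exact (K.iter (by omega) (hH 0) t (by omega)).2
  have hwhi : ∀ i, t < i → i < (t + 2) → K.ψ i w = 0 := by
    intro i hi hin
    rw [hw]
    exact (K.iter (by omega) (hH 0) t (by omega)).1 i hi hin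
  obtain ⟨A0, hA0⟩ : ∃ c, c = K.ψ t ((A.T * Sz 0) w) := ⟨_, rfl⟩
  obtain ⟨z, hz⟩ : ∃ z, z = (-g.coeff 0 - g.coeff (t + 1) * α * c0 - A0 * c0) / (α * c0) - (τ - p) :=
    ⟨_, rfl⟩
  obtain ⟨M, hM, hMg, hMc⟩ := K.complete rfl (hH z) g hg hgd
  let Ai : A.V ≃ₗ[F] A.V := LinearEquiv.ofIsUnitDet (v := Module.finBasis F A.V) (v' := Module.finBasis F A.V)
    (f := A.T) (by rw [LinearMap.det_toMatrix]; exact isUnit_iff_ne_zero.mpr hdet)
  have hAi : ∀ x, Ai x = A.T x := fun x => rfl
  obtain ⟨S, hS⟩ : ∃ S, S = Ai.symm.toLinearMap.comp M := ⟨_, rfl⟩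
  have hAS : A.T * S = M := LinearMap.ext fun x => by
    rw [hS]
    show A.T (Ai.symm (M x)) = M x
    rw [← hAi, Ai.apply_symm_apply]
  refine ⟨S, by rw [hAS]; exact hMc, ?_⟩
  have hSz : ∀ j < t + 1, S (K.b j) = Sz z (K.b j) := by
    intro j hj
    rw [hS]
    show Ai.symm (M (K.b j)) = _
    rw [hM j hj, Module.End.mul_apply, ← hAi, Ai.symm_apply_apply]
  -- zero coordinates
  have hphi : ∀ l < t, K.ψ 0 (M (K.b l)) = 0 := by
    intro l hl
    rw [hM l (by omega), hM0 z l hl, map_add, map_smul, K.dual 0 (by omega) (l + 1) (by omega),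
      if_neg (by omega), smul_zero, zero_add]
    split_ifs with h
    · exact map_zero _
    · rw [K.dual 0 (by omega) l (by omega), if_neg (Ne.symm h)]
  have hphit : K.ψ 0 (M (K.b t)) = c0 := by
    rw [hM t (by omega), hM0t, map_add, map_add, map_smul, map_smul, K.dual 0 (by omega) (t + 1) (by omega),
      if_neg (by omega), K.dual 0 (by omega) t (by omega), if_neg (by omega), smul_zero, smul_zero, add_zero,
      zero_add, hc0e]
  have hMeq : ∀ l < t + 1, M (K.b l) = (A.T * Sz 0) (K.b l) + K.ψ t (K.b l) • (z • K.b t) := by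
    intro l hl
    rw [hM l hl]
    rcases Nat.lt_or_ge l t with h | h
    · rw [hM0 z l h, hM0 0 l h, K.dual t (by omega) l (by omega), if_neg (show ¬t = l by omega), zero_smul, add_zero]
    · rw [show l = t by omega, hM0t, hM0t, K.dual t (by omega) t (by omega), if_pos rfl, one_smul, zero_smul,
        add_zero]
  have hit : ∀ j ≤ t, (M ^ j) (K.b 0) = ((A.T * Sz 0) ^ j) (K.b 0) := by
    intro j hj
    refine K.iter_eq (k := t) (by omega) (fun i hi => (hH 0) i (by omega)) (fun i hi => ?_) j hj
    rw [hMeq i (by omega), K.dual t (by omega) i (by omega), if_neg (by omega), zero_smul, add_zero]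
  have hMw : M w = (A.T * Sz 0) w + (α * z) • K.b t := by
    conv_lhs => rw [K.map_eq M w]
    conv_rhs => arg 1; rw [K.map_eq (A.T * Sz 0) w]
    rw [Finset.sum_range_succ _ (t + 1), Finset.sum_range_succ _ (t + 1),
      hwhi (t + 1) (by omega) (by omega), zero_smul, zero_smul, add_zero, add_zero,
      Finset.sum_congr rfl (fun l hl => by rw [hMeq l (Finset.mem_range.mp hl), smul_add]),
      Finset.sum_add_distrib, Finset.sum_eq_single t (f := fun l => K.ψ l w • K.ψ t (K.b l) • (z • K.b t))]
    · rw [K.dual t (by omega) t (by omega), if_pos rfl, one_smul, smul_smul, ← hα]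
    · intro l hl hne
      rw [K.dual t (by omega) l (by have := Finset.mem_range.mp hl; omega), if_neg (Ne.symm hne), zero_smul,
        smul_zero]
    · intro h
      exact absurd (Finset.mem_range.mpr (by omega)) h
  have hMwR : K.ψ (t + 1) (M w) = α := by
    rw [hMw, map_add, map_smul, K.dual (t + 1) (by omega) t (by omega), if_neg (by omega), smul_zero, add_zero]
    have h1 : K.ψ (t + 1) ((A.T * Sz 0) w) = ∑ l ∈ Finset.range (t + 2),
        K.ψ l w * K.ψ (t + 1) ((A.T * Sz 0) (K.b l)) := K.map_eq ((K.ψ (t + 1)).comp (A.T * Sz 0)) w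
    rw [h1, Finset.sum_eq_single t, hR1, mul_one, hα]
    · intro l hl hne
      rcases lt_or_gt_of_ne hne with h | h
      · rw [((hH 0) l (by omega)).1 (t + 1) (by omega) (by omega), mul_zero]
      · rw [hwhi l h (Finset.mem_range.mp hl), zero_mul]
    · intro h
      exact absurd (Finset.mem_range.mpr (by omega)) h
  have hMw0 : K.ψ 0 (M w) = α * c0 := by
    have h1 : K.ψ 0 (M w) = ∑ l ∈ Finset.range (t + 2), K.ψ l w * K.ψ 0 (M (K.b l)) :=
      K.map_eq ((K.ψ 0).comp M) w
    rw [h1, Finset.sum_eq_single t, hphit, hα]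
    · intro l hl hne
      rcases lt_or_gt_of_ne hne with h | h
      · rw [hphi l h, mul_zero]
      · rw [hwhi l h (Finset.mem_range.mp hl), zero_mul]
    · intro h
      exact absurd (Finset.mem_range.mpr (by omega)) h
  have hlast : K.ψ 0 (M (M w)) = (A0 + α * z) * c0 + α * K.ψ 0 (M (K.b (t + 1))) := by
    have h1 : K.ψ 0 (M (M w)) = ∑ l ∈ Finset.range (t + 2), K.ψ l (M w) * K.ψ 0 (M (K.b l)) :=
      K.map_eq ((K.ψ 0).comp M) (M w)
    rw [h1, Finset.sum_range_succ, Finset.sum_range_succ, Finset.sum_eq_zero, zero_add, hphit, hMwR]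
    · rw [hMw, map_add, map_smul, K.dual t (by omega) t (by omega), if_pos rfl, smul_eq_mul, mul_one, ← hA0]
    · intro l hl
      rw [hphi l (Finset.mem_range.mp hl), mul_zero]
  have hsum : g.coeff 0 + g.coeff (t + 1) * (α * c0) + K.ψ 0 (M (M w)) = 0 := by
    have h1 := congrArg (K.ψ 0) hMg
    rw [aeval_eq_sum_range' (n := t + 3) (by omega), map_zero, LinearMap.sum_apply, map_sum,
      Finset.sum_range_succ, Finset.sum_range_succ, Finset.sum_eq_single 0] at h1
    · simp only [LinearMap.smul_apply, map_smul, smul_eq_mul, pow_zero, Module.End.one_apply,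
        K.dual 0 (by omega) 0 (by omega), if_pos rfl, mul_one] at h1
      have hlead : g.coeff (t + 2) = 1 := by
        rw [← hgd]
        exact hg
      rw [hlead, one_mul, pow_succ' M (t + 1), Module.End.mul_apply, pow_succ' M t,
        Module.End.mul_apply, hit t le_rfl, ← hw, hMw0] at h1
      simp only [if_true, mul_one] at h1
      exact h1
    · intro i hi hne
      have hi' := Finset.mem_range.mp hi
      rw [LinearMap.smul_apply, map_smul, show i = i - 1 + 1 by omega, pow_succ', Module.End.mul_apply]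
      have h1 : K.ψ 0 (M ((M ^ (i - 1)) (K.b 0))) = ∑ l ∈ Finset.range (t + 2),
          K.ψ l ((M ^ (i - 1)) (K.b 0)) * K.ψ 0 (M (K.b l)) :=
        K.map_eq ((K.ψ 0).comp M) _
      rw [h1, Finset.sum_eq_zero, smul_zero]
      intro l hl
      rcases Nat.lt_or_ge l t with h | h
      · rw [hphi l h, mul_zero]
      · rw [hit (i - 1) (by omega),
          (K.iter (by omega) (hH 0) (i - 1) (by omega)).1 l (by omega) (Finset.mem_range.mp hl), zero_mul]
    · intro h
      exact absurd (Finset.mem_range.mpr (by omega)) h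
  obtain ⟨r, hr⟩ : ∃ r, r = K.ψ (t + 1) (S (K.b (t + 1))) := ⟨_, rfl⟩
  have hMR : K.ψ 0 (M (K.b (t + 1))) = c0 * r := by
    rw [← hAS, Module.End.mul_apply]
    have h1 : K.ψ 0 (A.T (S (K.b (t + 1)))) = ∑ l ∈ Finset.range (t + 2),
        K.ψ l (S (K.b (t + 1))) * K.ψ 0 (A.T (K.b l)) := K.map_eq ((K.ψ 0).comp A.T) _
    rw [h1, Finset.sum_eq_single (t + 1), ← hr, ← hc0e, mul_comm]
    · intro l hl hne
      have := Finset.mem_range.mp hl
      rw [hK1 l (by omega), K.dual 0 (by omega) (l + 1) (by omega), if_neg (by omega), mul_zero]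
    · intro h
      exact absurd (Finset.mem_range.mpr (by omega)) h
  have hrτ : r = τ - p := by
    rw [hlast, hMR] at hsum
    have h1 : z + (τ - p) = (-g.coeff 0 - g.coeff (t + 1) * α * c0 - A0 * c0) / (α * c0) := by
      rw [hz]; ring
    rw [eq_div_iff (mul_ne_zero hα0 hc0)] at h1
    have h2 : (α * c0) * (r - (τ - p)) = 0 := by linear_combination hsum - h1
    exact sub_eq_zero.mp ((mul_eq_zero.mp h2).resolve_left (mul_ne_zero hα0 hc0))
  obtain ⟨y, hy⟩ : ∃ y, y = K.ψ t (S (K.b (t + 1))) := ⟨_, rfl⟩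
  refine ⟨p * r - y, ?_⟩
  have hch := K.chain (t := t) (by omega) (S := S) d
    (fun _ => by rw [hSz 0 (by omega), hS0 z 0 ht]; simp)
    (fun j hj => by rw [hSz (j + 1) (by omega), hS0 z (j + 1) hj]; simp) (t - 1) (by omega)
  rw [show t - 1 + 1 = t by omega] at hch
  obtain ⟨h1, h2, h3⟩ := hch
  let W := gen (⟨A.V, S⟩ : Obj F) (K.b (t - 1))
  have hmem : ∀ x : A.V, x ∈ W ↔ K.ψ t x = 0 ∧ K.ψ (t + 1) x = 0 := by
    intro x
    constructor
    · intro hx
      obtain ⟨q, rfl⟩ := mem_gen.mp hx
      exact ⟨h2 q t (by omega) (by omega), h2 q (t + 1) (by omega) (by omega)⟩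
    · intro hx
      rw [K.expand x]
      refine Submodule.sum_mem _ fun i hi => ?_
      have hi' := Finset.mem_range.mp hi
      rcases Nat.lt_or_ge i t with h | h
      · obtain ⟨q, hq⟩ := h3 i (by omega)
        exact Submodule.smul_mem _ _ (mem_gen.mpr ⟨q, hq⟩)
      · rcases Nat.lt_or_ge i (t + 1) with h' | h'
        · rw [show i = t by omega, hx.1, zero_smul]; exact Submodule.zero_mem _
        · rw [show i = t + 1 by omega, hx.2, zero_smul]; exact Submodule.zero_mem _
  have hSP : ∀ i, i < (t + 2) → K.ψ i (S (K.b t)) =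
      p * (if i = t then 1 else 0) + (if i = t + 1 then 1 else 0) + z * (if i = t - 1 then 1 else 0) := by
    intro i hi
    rw [hSz t (by omega), hS0t, map_add, map_add, map_smul, map_smul, K.dual i hi t (by omega),
      K.dual i hi (t + 1) (by omega), K.dual i hi (t - 1) (by omega)]
    rfl
  have hSPt : K.ψ t (S (K.b t)) = p := by
    rw [hSP t (by omega), if_pos rfl, if_neg (by omega), if_neg (by omega)]; ring
  have hSPR : K.ψ (t + 1) (S (K.b t)) = 1 := by
    rw [hSP (t + 1) (by omega), if_neg (by omega), if_pos rfl, if_neg (by omega)]; ring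
  have hS2 : ∀ i, (i = t ∨ i = t + 1) → K.ψ i (S (S (K.b t))) =
      p * K.ψ i (S (K.b t)) + K.ψ i (S (K.b (t + 1))) := by
    intro i hi
    conv_lhs => rw [hSz t (by omega), hS0t, map_add, map_add, map_smul, map_smul, map_add, map_add, map_smul,
      map_smul]
    have h4 : S (K.b (t - 1)) ∈ W := gen_invariant (⟨A.V, S⟩ : Obj F) _ (mem_gen.mpr (h3 (t - 1) le_rfl))
    rw [hmem] at h4
    have h5 : K.ψ i (S (K.b (t - 1))) = 0 := by rcases hi with rfl | rfl; exacts [h4.1, h4.2]
    rw [h5, smul_zero, add_zero]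
    rfl
  let h : F[X] := X ^ 2 - C τ * X + C (p * r - y)
  have hhm : h.Monic := by simp only [h]; monicity!
  have hhd : h.natDegree = 2 := by simp only [h]; compute_degree!
  have hhb : aeval S h (K.b t) ∈ W := by
    rw [hmem]
    simp only [h, map_add, map_sub, map_mul, aeval_X_pow, aeval_X, aeval_C, LinearMap.add_apply,
      LinearMap.sub_apply, Module.End.mul_apply, Module.algebraMap_end_apply, map_smul, smul_eq_mul, sq]
    refine ⟨?_, ?_⟩
    · rw [hS2 t (Or.inl rfl), hSPt, ← hy, K.dual t (by omega) t (by omega), if_pos rfl]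
      linear_combination p * hrτ
    · rw [hS2 (t + 1) (Or.inr rfl), hSPR, ← hr, K.dual (t + 1) (by omega) t (by omega), if_neg (by omega)]
      linear_combination hrτ
  have hexact : ∀ q : F[X], aeval S q (K.b t) ∈ W → h ∣ q := by
    intro q hq
    have hb2 : aeval S (q %ₘ h) (K.b t) ∈ W := by
      rw [modByMonic_eq_sub_mul_div q h, map_sub, LinearMap.sub_apply]
      refine Submodule.sub_mem _ hq ?_
      obtain ⟨rr, hrr⟩ := mem_gen.mp hhb
      exact mem_gen.mpr ⟨(q /ₘ h) * rr,
        by rw [mul_comm h (q /ₘ h), map_mul, map_mul, Module.End.mul_apply, Module.End.mul_apply, hrr]⟩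
    have hlt : (q %ₘ h).natDegree < 2 := by
      have := natDegree_modByMonic_lt q hhm (fun e => by rw [e, natDegree_one] at hhd; omega)
      omega
    rw [← modByMonic_eq_zero_iff_dvd hhm]
    generalize hrem : q %ₘ h = R0 at hb2 hlt
    rw [aeval_eq_sum_range' hlt, LinearMap.sum_apply, Finset.sum_range_succ, Finset.sum_range_one, hmem] at hb2
    simp only [LinearMap.smul_apply, pow_zero, pow_one, Module.End.one_apply, map_add, map_smul, smul_eq_mul,
      hSPt, hSPR, K.dual t (show t < (t + 2) by omega) t (by omega),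
      K.dual (t + 1) (show t + 1 < (t + 2) by omega) t (by omega), if_pos rfl] at hb2
    obtain ⟨e1, e2⟩ := hb2
    rw [if_neg (show ¬t + 1 = t by omega), mul_zero, zero_add, mul_one] at e2
    rw [e2, zero_mul, add_zero] at e1
    simp only [if_true, mul_one] at e1
    ext i
    rcases Nat.lt_or_ge i 2 with hi | hi
    · interval_cases i
      · exact e1.trans (coeff_zero 0).symm
      · exact e2.trans (coeff_zero 1).symm
    · rw [coeff_zero, coeff_eq_zero_of_natDegree_lt (by omega)]
  have hext := Obj.ext_cyc (A := ⟨A.V, S⟩) (monic_prod_linear d) hhm (K.b (t - 1)) (K.b t) h1 hhb hexact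
    (by rw [natDegree_prod_linear, hhd]; exact K.finrank_eq)
  refine ⟨?_, fun hc => hext.2 (Or.inl hc)⟩
  have hMdet : A.det * (⟨A.V, S⟩ : Obj F).det = (-1) ^ (t + 2) * g.coeff 0 := by
    have := hMc.det_eq hg
    rw [hgd] at this
    rw [← this]
    show LinearMap.det A.T * LinearMap.det S = LinearMap.det M
    rw [← hAS, map_mul]
  rw [hext.1, natDegree_prod_linear, coeff_zero_prod_linear, hhd] at hMdet
  rw [show h.coeff 0 = p * r - y by simp [h], pow_add, neg_one_sq, mul_one, one_mul] at hMdet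
  exact hMdet

end Cfsg.Agent.Classical.Thompson
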