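import Cfsg.Agent.Lib.Classical.Thompson.Decomp

/-!
# Gluing two conversions, and conversions in dimension two
-/

set_option autoImplicit false

namespace Cfsg.Agent.Classical.Thompson

open Polynomial Module

universe u

variable {F : Type u} [Field F]

/-- An upper triangular extension. -/
abbrev upper (A B : Obj F) (U : B.V →ₗ[F] A.V) : Obj F :=
  ⟨A.V × B.V, A.T.prodMap B.T + (LinearMap.inl F A.V B.V).comp (U.comp (LinearMap.snd F A.V B.V))⟩

theorem upper_apply (A B : Obj F) (U : B.V →ₗ[F] A.V) (x : A.V × B.V) :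
    (upper A B U).T x = (A.T x.1 + U x.2, B.T x.2) := by
  simp

theorem aeval_upper_left (A B : Obj F) (U : B.V →ₗ[F] A.V) (p : F[X]) (x : A.V) :
    aeval (upper A B U).T p (x, 0) = (aeval A.T p x, 0) :=
  (aeval_intertwine (A := A) (B := upper A B U) (LinearMap.inl F A.V B.V) (fun v => by simp) p x).symm

theorem aeval_upper_snd (A B : Obj F) (U : B.V →ₗ[F] A.V) (p : F[X]) (x : A.V × B.V) :
    (aeval (upper A B U).T p x).2 = aeval B.T p x.2 :=
  aeval_intertwine (A := upper A B U) (B := B) (LinearMap.snd F A.V B.V) (fun v => by simp) p x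

theorem upper_cyc_aux {A B : Obj F} {f g : F[X]} (hf : f.Monic) (hg : g.Monic) {u : A.V} {b : B.V}
    (hu : ∀ p : F[X], aeval A.T p u = 0 ↔ f ∣ p) (hus : ∀ w, ∃ p : F[X], aeval A.T p u = w)
    (hb : ∀ p : F[X], aeval B.T p b = 0 ↔ g ∣ p) (hd : finrank F A.V = f.natDegree)
    (hdB : finrank F B.V = g.natDegree) (U : B.V →ₗ[F] A.V)
    (h : IsCoprime f g ∨ (aeval (upper A B U).T g ((0 : A.V), b)).1 = u) :
    (upper A B U).Cyc (f * g) := by
  have hmem : ∀ x : A.V × B.V, x ∈ gen (upper A B U) (u, (0 : B.V)) ↔ x.2 = 0 := by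
    intro x
    constructor
    · intro hx
      obtain ⟨p, rfl⟩ := mem_gen.mp hx
      rw [aeval_upper_left]
    · intro hx
      obtain ⟨p, hp⟩ := hus x.1
      exact mem_gen.mpr ⟨p, by rw [aeval_upper_left, hp, ← hx]⟩
  have h1 := Obj.ext_cyc (A := upper A B U) hf hg (u, (0 : B.V)) ((0 : A.V), b)
    (fun p => by rw [aeval_upper_left, Prod.mk_eq_zero, and_iff_left rfl, hu])
    ((hmem _).mpr (by rw [aeval_upper_snd]; exact (hb g).mpr dvd_rfl))
    (fun p hp => (hb p).mp (by rw [← (hmem _).mp hp, aeval_upper_snd]))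
    (by
      show finrank F (A.V × B.V) = _
      rw [Module.finrank_prod, hd, hdB])
  refine h1.2 (h.imp id fun h => Prod.ext h ?_)
  rw [aeval_upper_snd]
  exact (hb g).mpr dvd_rfl

theorem upper_cyc {A B : Obj F} {f g : F[X]} (hf : f.Monic) (hg : g.Monic) (hA : A.Cyc f) (hB : B.Cyc g)
    (hfg : IsCoprime f g) (U : B.V →ₗ[F] A.V) : (upper A B U).Cyc (f * g) := by
  have hd := hA.finrank_eq hf
  have hdB := hB.finrank_eq hg
  obtain ⟨u, hu, hus⟩ := hA
  obtain ⟨b, hb, -⟩ := hB
  exact upper_cyc_aux hf hg hu hus hb hd hdB U (Or.inl hfg)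

theorem exists_upper_cyc {A B : Obj F} {f g : F[X]} (hf : f.Monic) (hg : g.Monic) (hA : A.Cyc f) (hB : B.Cyc g)
    (hgd : 0 < g.natDegree) (hBd : B.det ≠ 0) : ∃ U : B.V →ₗ[F] A.V, (upper A B U).Cyc (f * g) := by
  classical
  have hd := hA.finrank_eq hf
  have hdB := hB.finrank_eq hg
  obtain ⟨n, hn⟩ : ∃ n, n = g.natDegree := ⟨_, rfl⟩
  obtain ⟨K, hK1, -⟩ := hB.coords hg hBd hn
  obtain ⟨u, hu, hus⟩ := hA
  have hpow : ∀ j < n, (B.T ^ j) (K.b 0) = K.b j := by
    intro j
    induction j with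
    | zero => intro _; rw [pow_zero, Module.End.one_apply]
    | succ j ih => intro hj; rw [pow_succ', Module.End.mul_apply, ih (by omega), hK1 j hj]
  have hzero : ∀ x, aeval B.T g x = 0 := fun x => by
    conv_lhs => rw [← hB.charpoly_eq hg, LinearMap.aeval_self_charpoly]
    rfl
  have hb : ∀ p : F[X], aeval B.T p (K.b 0) = 0 ↔ g ∣ p := by
    intro p
    constructor
    · intro hp
      rw [← modByMonic_eq_zero_iff_dvd hg]
      have h1 : aeval B.T (p %ₘ g) (K.b 0) = 0 := by
        rw [modByMonic_eq_sub_mul_div p g, map_sub, LinearMap.sub_apply, hp, map_mul, Module.End.mul_apply,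
          hzero, sub_zero]
      have hg1 : g ≠ 1 := fun e => by rw [e, natDegree_one] at hgd; omega
      have hlt : (p %ₘ g).natDegree < n := hn ▸ natDegree_modByMonic_lt p hg hg1
      generalize p %ₘ g = r at h1 hlt
      rw [aeval_eq_sum_range' hlt, LinearMap.sum_apply] at h1
      ext i
      rcases Nat.lt_or_ge i n with hi | hi
      · have h2 := congrArg (K.ψ i) h1
        rw [map_sum, map_zero, Finset.sum_eq_single i] at h2
        · rwa [LinearMap.smul_apply, map_smul, hpow i hi, K.dual i hi i hi, if_pos rfl, smul_eq_mul, mul_one,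
            ← coeff_zero (R := F) i] at h2
        · intro j hj hne
          rw [LinearMap.smul_apply, map_smul, hpow j (Finset.mem_range.mp hj),
            K.dual i hi j (Finset.mem_range.mp hj), if_neg (Ne.symm hne), smul_zero]
        · intro h
          exact absurd (Finset.mem_range.mpr hi) h
      · rw [coeff_zero, coeff_eq_zero_of_natDegree_lt (by omega)]
    · rintro ⟨r, rfl⟩
      rw [mul_comm g r, map_mul, Module.End.mul_apply]
      have := hzero (K.b 0)
      rw [this, map_zero]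
  refine ⟨(K.ψ (n - 1)).smulRight u, upper_cyc_aux hf hg hu hus hb hd hdB _ (Or.inr ?_)⟩
  let T := (upper A B ((K.ψ (n - 1)).smulRight u)).T
  have hit : ∀ j < n, (T ^ j) ((0 : A.V), K.b 0) = ((0 : A.V), K.b j) := by
    intro j
    induction j with
    | zero => intro _; rw [pow_zero, Module.End.one_apply]
    | succ j ih =>
      intro hj
      rw [pow_succ', Module.End.mul_apply, ih (by omega), upper_apply]
      simp only [map_zero, zero_add, LinearMap.smulRight_apply, K.dual (n - 1) (by omega) j (by omega),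
        hK1 j hj]
      rw [if_neg (by omega), zero_smul]
  show (aeval T g ((0 : A.V), K.b 0)).1 = u
  rw [aeval_eq_sum_range' (n := n + 1) (by omega), LinearMap.sum_apply, Prod.fst_sum, Finset.sum_range_succ,
    Finset.sum_eq_zero, zero_add, LinearMap.smul_apply, Prod.smul_fst]
  · rw [show g.coeff n = 1 from hn ▸ hg, one_smul]
    have hTn : (T ^ n) ((0 : A.V), K.b 0) = T ((T ^ (n - 1)) ((0 : A.V), K.b 0)) := by
      rw [← Module.End.mul_apply, ← pow_succ', Nat.sub_add_cancel (show 1 ≤ n by omega)]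
    rw [hTn, hit (n - 1) (by omega)]
    rw [upper_apply]
    simp only [map_zero, zero_add, LinearMap.smulRight_apply, K.dual (n - 1) (by omega) (n - 1) (by omega),
      if_true, one_smul]
  · intro j hj
    rw [LinearMap.smul_apply, Prod.smul_fst, hit j (Finset.mem_range.mp hj), smul_zero]

/-- Conversions between cyclic types can be glued. -/
theorem Conv.glue {A B : Obj F} {f1 g1 f2 g2 : F[X]} {hf1 : f1.Monic} {hg1 : g1.Monic} {hf2 : f2.Monic}
    {hg2 : g2.Monic} (hA : A.det ≠ 0) (h1 : Conv A (Q f1 hf1) (Q g1 hg1)) (h2 : Conv B (Q f2 hf2) (Q g2 hg2))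
    (hB : B.det ≠ 0) (hd : 0 < f2.natDegree) (hd' : 0 < g2.natDegree) (h0 : (Q f2 hf2).det ≠ 0)
    (hc : IsCoprime f1 f2 ∨ IsCoprime g1 g2) :
    Conv (A.prod B) (Q (f1 * f2) (hf1.mul hf2)) (Q (g1 * g2) (hg1.mul hg2)) := by
  obtain ⟨S, hS, hS'⟩ := h1
  obtain ⟨S2, hS2, hS2'⟩ := h2
  have hS2d : (⟨B.V, S2⟩ : Obj F).det ≠ 0 := by rw [hS2.det_eq]; exact h0
  have hS2d' : (⟨B.V, B.T * S2⟩ : Obj F).det ≠ 0 := by
    show LinearMap.det (B.T * S2) ≠ 0
    rw [map_mul]
    exact mul_ne_zero hB hS2d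
  let Ai : A.V ≃ₗ[F] A.V := LinearEquiv.ofIsUnitDet (v := Module.finBasis F A.V) (v' := Module.finBasis F A.V)
    (f := A.T) (by rw [LinearMap.det_toMatrix]; exact isUnit_iff_ne_zero.mpr hA)
  have key : ∀ U : B.V →ₗ[F] A.V, (upper ⟨A.V, S⟩ ⟨B.V, S2⟩ U).Cyc (f1 * f2) →
      (upper ⟨A.V, A.T * S⟩ ⟨B.V, B.T * S2⟩ (A.T.comp U)).Cyc (g1 * g2) →
      Conv (A.prod B) (Q (f1 * f2) (hf1.mul hf2)) (Q (g1 * g2) (hg1.mul hg2)) := by
    intro U hU hU'
    refine ⟨(upper ⟨A.V, S⟩ ⟨B.V, S2⟩ U).T, hU.iso_Q _,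
      Obj.Iso.trans (B := upper ⟨A.V, A.T * S⟩ ⟨B.V, B.T * S2⟩ (A.T.comp U))
        ⟨LinearEquiv.refl F _, fun v => ?_⟩ (hU'.iso_Q _)⟩
    show (A.prod B).T ((upper ⟨A.V, S⟩ ⟨B.V, S2⟩ U).T v) = _
    rw [upper_apply]
    simp [upper_apply]
  have c1 := (cyc_Q f1 hf1).of_iso hS.symm
  have c1' := (cyc_Q g1 hg1).of_iso hS'.symm
  have c2 := (cyc_Q f2 hf2).of_iso hS2.symm
  have c2' := (cyc_Q g2 hg2).of_iso hS2'.symm
  rcases hc with hc | hc
  · obtain ⟨U', hU'⟩ := exists_upper_cyc hg1 hg2 c1' c2' hd' hS2d'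
    refine key (Ai.symm.toLinearMap.comp U') (upper_cyc hf1 hf2 c1 c2 hc _) ?_
    have : A.T.comp (Ai.symm.toLinearMap.comp U') = U' := LinearMap.ext fun x => Ai.apply_symm_apply (U' x)
    rw [this]
    exact hU'
  · obtain ⟨U, hU⟩ := exists_upper_cyc hf1 hf2 c1 c2 hd hS2d
    exact key U hU (upper_cyc hg1 hg2 c1' c2' hc _)

/-- Cyclic maps in dimension two. -/
theorem cyc_dim_two {A : Obj F} (hd : finrank F A.V = 2) (v : A.V) (τ N : F)
    (hind : ∀ a b : F, a • v + b • A.T v = 0 → a = 0 ∧ b = 0)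
    (hrel : A.T (A.T v) = τ • A.T v - N • v) : A.Cyc (X ^ 2 - C τ * X + C N) := by
  refine Obj.cyc_of_dim A (monic_quadratic τ N) v (fun p => ?_) (by rw [natDegree_quadratic, hd])
  have h0 : aeval A.T (X ^ 2 - C τ * X + C N : F[X]) v = 0 := by
    simp only [map_add, map_sub, map_mul, aeval_X_pow, aeval_X, aeval_C, LinearMap.add_apply,
      LinearMap.sub_apply, Module.End.mul_apply, Module.algebraMap_end_apply, sq, hrel]
    abel
  have h1 : aeval A.T p v = aeval A.T (p %ₘ (X ^ 2 - C τ * X + C N)) v := by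
    conv_lhs => rw [← modByMonic_add_div p (X ^ 2 - C τ * X + C N)]
    rw [map_add, LinearMap.add_apply, mul_comm (X ^ 2 - C τ * X + C N) (p /ₘ _), map_mul, Module.End.mul_apply, h0, map_zero, add_zero]
  rw [h1, ← modByMonic_eq_zero_iff_dvd (monic_quadratic τ N)]
  have hlt : (p %ₘ (X ^ 2 - C τ * X + C N)).natDegree < 2 := by
    have h2 := natDegree_modByMonic_lt p (monic_quadratic τ N) (fun e => by
      have := natDegree_quadratic τ N
      rw [e, natDegree_one] at this
      omega)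
    rw [natDegree_quadratic] at h2
    exact h2
  generalize p %ₘ (X ^ 2 - C τ * X + C N) = r at hlt
  refine ⟨fun hr => ?_, fun hr => by rw [hr, map_zero, LinearMap.zero_apply]⟩
  rw [aeval_eq_sum_range' hlt, LinearMap.sum_apply, Finset.sum_range_succ, Finset.sum_range_one] at hr
  obtain ⟨e0, e1⟩ := hind (r.coeff 0) (r.coeff 1) (by simpa using hr)
  ext i
  rcases i with _ | _ | i
  · simpa using e0
  · simpa using e1
  · rw [coeff_zero, coeff_eq_zero_of_natDegree_lt (by omega)]

/-- Conversions of a cyclic block of size two. -/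
theorem conv_dim_two {A : Obj F} {τ N : F} (hA : A.Cyc (X ^ 2 - C τ * X + C N)) (hdet : A.det ≠ 0)
    (p r τ1 N1 τ2 : F) (hr : r ≠ 0) (hp : p + r * τ ≠ 0)
    (heq : (τ1 - p) * (p + r * τ) - r ^ 2 * N - N1 = r * τ2) :
    Conv A (Q _ (monic_quadratic τ1 N1)) (Q _ (monic_quadratic τ2 (N * N1))) := by
  classical
  have hd : finrank F A.V = 2 := (hA.finrank_eq (monic_quadratic τ N)).trans (natDegree_quadratic τ N)
  obtain ⟨v, hv, -⟩ := hA
  obtain ⟨w, hw⟩ : ∃ w, w = A.T v := ⟨_, rfl⟩
  have hind : ∀ a b : F, a • v + b • w = 0 → a = 0 ∧ b = 0 := by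
    intro a b h
    have h1 := (hv (C a + C b * X)).mp (by simpa [Module.algebraMap_end_apply, ← hw] using h)
    have h2 := eq_zero_of_dvd_of_degree_lt h1 (by
      rw [degree_eq_natDegree (monic_quadratic τ N).ne_zero, natDegree_quadratic]
      refine lt_of_le_of_lt (degree_add_le _ _) (max_lt ?_ ?_)
      · exact degree_C_le.trans_lt (by norm_num)
      · exact (degree_C_mul_X_le b).trans_lt (by norm_num))
    have e0 := congrArg (fun q => coeff q 0) h2
    have e1 := congrArg (fun q => coeff q 1) h2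
    simp only [coeff_add, coeff_C_mul, coeff_X_zero, coeff_X_one, coeff_C_zero, coeff_C_succ, coeff_zero, mul_zero,
      mul_one, add_zero, zero_add] at e0 e1
    exact ⟨e0, e1⟩
  have hli : LinearIndependent F ![v, w] := LinearIndependent.pair_iff.mpr hind
  let B := basisOfLinearIndependentOfCardEqFinrank hli (by rw [Fintype.card_fin, hd])
  have hB0 : B 0 = v := by simp [B]
  have hB1 : B 1 = w := by simp [B]
  have hrel : A.T w = τ • w - N • v := by
    have h1 := (hv _).mpr (dvd_refl (X ^ 2 - C τ * X + C N))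
    simp only [map_add, map_sub, map_mul, aeval_X_pow, aeval_X, aeval_C, LinearMap.add_apply,
      LinearMap.sub_apply, Module.End.mul_apply, Module.algebraMap_end_apply, sq, ← hw] at h1
    linear_combination (norm := module) h1
  obtain ⟨s, hs⟩ : ∃ s, s = τ1 - p := ⟨_, rfl⟩
  obtain ⟨q, hq⟩ : ∃ q, q = (p * s - N1) / r := ⟨_, rfl⟩
  have hqr : q * r = p * s - N1 := by rw [hq, div_mul_cancel₀ _ hr]
  let S : Module.End F A.V := B.constr F ![p • v + r • w, q • v + s • w]
  have hSv : S v = p • v + r • w := by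
    conv_lhs => rw [← hB0]
    simp [S]
  have hSw : S w = q • v + s • w := by
    conv_lhs => rw [← hB1]
    simp [S]
  refine ⟨S, ?_, ?_⟩
  · refine (cyc_dim_two (A := ⟨A.V, S⟩) hd v τ1 N1 (fun a b h => ?_) ?_).iso_Q _
    · change a • v + b • S v = 0 at h
      rw [hSv] at h
      obtain ⟨h1, h2⟩ := hind (a + b * p) (b * r) (by linear_combination (norm := module) h)
      have hb0 : b = 0 := (mul_eq_zero.mp h2).resolve_right hr
      exact ⟨by simpa [hb0] using h1, hb0⟩
    · show S (S v) = τ1 • S v - N1 • v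
      rw [hSv, map_add, map_smul, map_smul, hSv, hSw]
      match_scalars
      · linear_combination hqr + p * hs
      · linear_combination r * hs
  · refine (cyc_dim_two (A := ⟨A.V, A.T * S⟩) hd v τ2 (N * N1) (fun a b h => ?_) ?_).iso_Q _
    · change a • v + b • A.T (S v) = 0 at h
      rw [hSv, map_add, map_smul, map_smul, ← hw, hrel] at h
      obtain ⟨h1, h2⟩ := hind (a - b * r * N) (b * (p + r * τ)) (by linear_combination (norm := module) h)
      have hb0 : b = 0 := (mul_eq_zero.mp h2).resolve_right hp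
      exact ⟨by simpa [hb0] using h1, hb0⟩
    · show A.T (S (A.T (S v))) = τ2 • A.T (S v) - (N * N1) • v
      have hASv : A.T (S v) = (-(r * N)) • v + (p + r * τ) • w := by
        rw [hSv, map_add, map_smul, map_smul, ← hw, hrel]
        module
      have hASw : A.T (S w) = (-(s * N)) • v + (q + s * τ) • w := by
        rw [hSw, map_add, map_smul, map_smul, ← hw, hrel]
        module
      have htr : -(r * N) + (q + s * τ) = τ2 := by
        apply mul_left_cancel₀ hr
        linear_combination heq + hqr + (p + r * τ) * hs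
      rw [hASv, map_add, map_smul, map_smul, map_add, map_smul, map_smul, hASv, hASw]
      match_scalars
      · linear_combination (-(r * N)) * htr + N * hqr
      · linear_combination (p + r * τ) * htr

end Cfsg.Agent.Classical.Thompson
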