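import Cfsg.Agent.Lib.Classical.Thompson.Decomp

/-!
# Commutators over fields with at least four elements
-/

set_option autoImplicit false

namespace Cfsg.Agent.Classical.Thompson

open Polynomial Module

universe u

variable {F : Type u} [Field F] [Fintype F]

theorem exists_avoid (h4 : 4 ≤ Fintype.card F) (x y : F) : ∃ c : F, c ≠ 0 ∧ c ≠ x ∧ c ≠ y := by
  classical
  by_contra h
  push Not at h
  have hsub : (Finset.univ : Finset F) ⊆ {0, x, y} := fun c _ => by
    simp only [Finset.mem_insert, Finset.mem_singleton]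
    by_cases h0 : c = 0
    · exact Or.inl h0
    by_cases h1 : c = x
    · exact Or.inr (Or.inl h1)
    exact Or.inr (Or.inr (h c h0 h1))
  have h1 := Finset.card_le_card hsub
  rw [Finset.card_univ] at h1
  have : ({0, x, y} : Finset F).card ≤ 3 := Finset.card_le_three
  omega

theorem det_bigSum_ne_zero (l : List (Blk F)) (hd : (bigSum l).det ≠ 0) :
    ∀ b ∈ l, b.obj.det ≠ 0 := by
  induction l with
  | nil => simp
  | cons c l ih =>
    rw [bigSum_cons, Obj.det_prod, mul_ne_zero_iff] at hd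
    intro b hb
    rcases List.mem_cons.mp hb with rfl | hb
    · exact hd.1
    · exact ih hd.2 b hb

theorem chainAny_bigSum (h4 : 4 ≤ Fintype.card F) :
    ∀ (l : List (Blk F)), l ≠ [] → (bigSum l).det ≠ 0 → ChainAny (bigSum l)
  | [], h, _ => absurd rfl h
  | [b], _, hd => chainAny_of_iso (prod_zero b.obj).symm
      (chainAny_cyc (exists_avoid h4) b.f_monic (cyc_Q _ b.f_monic) (det_bigSum_ne_zero [b] hd b (by simp))
        b.deg_pos)
  | b :: c :: l, _, hd => by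
    have hb := det_bigSum_ne_zero _ hd b (by simp)
    rw [bigSum_cons, Obj.det_prod, mul_ne_zero_iff] at hd
    exact ChainAny.prod hb (chainAny_cyc (exists_avoid h4) b.f_monic (cyc_Q _ b.f_monic) hb b.deg_pos)
      (chainAny_bigSum h4 (c :: l) (by simp) hd.2)

/-- Extending a flexible summand. -/
theorem chainFull_prod (h4 : 4 ≤ Fintype.card F) {A R : Obj F} (hA : A.det ≠ 0) (hR : R.det ≠ 0)
    (h : ChainFull A) : ChainFull (A.prod R) := by
  obtain ⟨l, hl⟩ := exists_bigSum R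
  by_cases hne : l = []
  · subst hne
    exact chainFull_of_iso ((prod_zero A).symm.trans ((Obj.Iso.refl A).prod hl.symm)) h
  · refine h.prod hA (chainAny_of_iso hl.symm (chainAny_bigSum h4 l hne ?_))
    rw [← hl.det_eq]; exact hR

theorem comm_scalar_pow (lam : F) : ∀ s : ℕ, lam ^ s = 1 → Comm (Pow (Lin lam) s) := by
  intro s hs
  rcases Nat.eq_zero_or_pos s with rfl | hs0
  · exact comm_zero
  obtain ⟨k, rfl⟩ := orderOf_dvd_of_pow_eq_one hs
  have hm : 0 < orderOf lam := Nat.pos_of_mul_pos_right hs0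
  clear hs hs0
  induction k with
  | zero => exact comm_zero
  | succ k ih =>
    rw [Nat.mul_succ]
    exact Comm.of_iso (pow_add_iso _ _ _).symm (ih.prod (comm_scalar lam (IsPrimitiveRoot.orderOf lam) hm))

theorem eq_mul_of_root {a : F[X]} (ha : a.Monic) (hd : a.natDegree = 2) {lam : F} (h : a.eval lam = 0) :
    ∃ μ : F, a = (X - C lam) * (X - C μ) := by
  obtain ⟨r, hr⟩ := dvd_iff_isRoot.mpr h
  have hrm : r.Monic := (monic_X_sub_C lam).of_mul_monic_left (hr ▸ ha)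
  have hrd : r.natDegree = 1 := by
    rw [hr, (monic_X_sub_C lam).natDegree_mul hrm, natDegree_X_sub_C] at hd
    omega
  refine ⟨-r.coeff 0, ?_⟩
  rw [hr]
  congr 1
  conv_lhs => rw [eq_X_add_C_of_natDegree_le_one hrd.le]
  rw [show r.coeff 1 = 1 from hrd ▸ hrm, C_1, one_mul, map_neg, sub_neg_eq_add]

/-- One block of size two and a scalar. -/
theorem comm_one_block (h4 : 4 ≤ Fintype.card F) {lam : F} {a : F[X]} (ha : a.Monic) (hd : a.natDegree = 2)
    {s : ℕ} (hroot : s = 0 ∨ a.eval lam = 0) (hdet : ((Pow (Lin lam) s).prod (Q a ha)).det = 1) :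
    Comm ((Pow (Lin lam) s).prod (Q a ha)) := by
  have hdet' : lam ^ s * (Q a ha).det = 1 := by rwa [Obj.det_prod, det_pow, det_Lin] at hdet
  rcases Nat.eq_zero_or_pos s with rfl | hs
  · rw [pow_zero, one_mul] at hdet'
    exact Comm.of_iso (zero_prod _).symm (comm_two (exists_avoid h4) ha (cyc_Q a ha) hd hdet')
  obtain ⟨μ, rfl⟩ := eq_mul_of_root ha hd (hroot.resolve_left (by omega))
  by_cases hl : lam = 1
  · subst hl
    refine (comm_one s).prod (comm_two (exists_avoid h4) ha (cyc_Q _ ha) hd ?_)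
    simpa using hdet'
  · refine comm_reflection (fun x y => ?_) hl hs ?_
    · obtain ⟨c, -, hx, hy⟩ := exists_avoid h4 x y
      exact ⟨c, hx, hy⟩
    · rw [det_Q, hd, neg_one_sq, one_mul, mul_coeff_zero, coeff_sub, coeff_sub, coeff_X_zero, coeff_C_zero,
        coeff_C_zero] at hdet'
      rw [pow_succ]
      linear_combination hdet'

theorem small_exponents_3 : ∀ i j s t : Fin 3, 1 ≤ s.1 → 2 ≤ t.1 →
    (s.1 * i + t * (i + j)) % 3 = 0 → (∀ k : Fin 3, 1 ≤ k.1 → k.1 ≤ s → ¬ (k.1 * i) % 3 = 0) →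
    (∀ k : Fin 3, 1 ≤ k.1 → k.1 ≤ t → ¬ (k.1 * (i + j)) % 3 = 0) →
    (∃ k : Fin 3, k.1 ≤ s ∧ (k.1 * i + (i + j)) % 3 = 0) ∨
      (i.1 ≠ j ∧ ((∃ k : Fin 4, 1 ≤ k.1 ∧ k.1 ≤ s + t ∧ (k.1 * i) % 3 = 0) ∨
        (∃ k : Fin 4, 1 ≤ k.1 ∧ k.1 ≤ t ∧ (k.1 * j) % 3 = 0))) := by
  decide +kernel

theorem small_exponents_4 : ∀ i j s t : Fin 4, 1 ≤ s.1 → 2 ≤ t.1 →
    (s.1 * i + t * (i + j)) % 4 = 0 → (∀ k : Fin 4, 1 ≤ k.1 → k.1 ≤ s → ¬ (k.1 * i) % 4 = 0) →
    (∀ k : Fin 4, 1 ≤ k.1 → k.1 ≤ t → ¬ (k.1 * (i + j)) % 4 = 0) →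
    (∃ k : Fin 4, k.1 ≤ s ∧ (k.1 * i + (i + j)) % 4 = 0) ∨
      (i.1 ≠ j ∧ ((∃ k : Fin 5, 1 ≤ k.1 ∧ k.1 ≤ s + t ∧ (k.1 * i) % 4 = 0) ∨
        (∃ k : Fin 5, 1 ≤ k.1 ∧ k.1 ≤ t ∧ (k.1 * j) % 4 = 0))) := by
  decide +kernel

theorem small_exponents (m : ℕ) (hm : m ∈ [3, 4]) (i : ℕ) (hi : i < m) (j : ℕ) (hj : j < m) (s : ℕ)
    (hs : s < m) (t : ℕ) (ht : t < m) (h1 : 1 ≤ s) (h2 : 2 ≤ t) (h3 : (s * i + t * (i + j)) % m = 0)
    (h4 : ∀ k < m, 1 ≤ k → k ≤ s → ¬ (k * i) % m = 0)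
    (h5 : ∀ k < m, 1 ≤ k → k ≤ t → ¬ (k * (i + j)) % m = 0) :
    (∃ k < m, k ≤ s ∧ (k * i + (i + j)) % m = 0) ∨
      (i ≠ j ∧ ((∃ k < m + 1, 1 ≤ k ∧ k ≤ s + t ∧ (k * i) % m = 0) ∨
        (∃ k < m + 1, 1 ≤ k ∧ k ≤ t ∧ (k * j) % m = 0))) := by
  simp only [List.mem_cons, List.not_mem_nil, or_false] at hm
  rcases hm with rfl | rfl
  · rcases small_exponents_3 ⟨i, hi⟩ ⟨j, hj⟩ ⟨s, hs⟩ ⟨t, ht⟩ h1 h2 h3 (fun k => h4 k k.2)
        (fun k => h5 k k.2) with ⟨k, h⟩ | ⟨hne, ⟨k, h⟩ | ⟨k, h⟩⟩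
    exacts [Or.inl ⟨k, k.2, h⟩, Or.inr ⟨hne, Or.inl ⟨k, k.2, h⟩⟩, Or.inr ⟨hne, Or.inr ⟨k, k.2, h⟩⟩]
  · rcases small_exponents_4 ⟨i, hi⟩ ⟨j, hj⟩ ⟨s, hs⟩ ⟨t, ht⟩ h1 h2 h3 (fun k => h4 k k.2)
        (fun k => h5 k k.2) with ⟨k, h⟩ | ⟨hne, ⟨k, h⟩ | ⟨k, h⟩⟩
    exacts [Or.inl ⟨k, k.2, h⟩, Or.inr ⟨hne, Or.inl ⟨k, k.2, h⟩⟩, Or.inr ⟨hne, Or.inr ⟨k, k.2, h⟩⟩]

omit [Fintype F] in
theorem finrank_prod_obj (A B : Obj F) : finrank F (A.prod B).V = finrank F A.V + finrank F B.V :=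
  Module.finrank_prod

omit [Fintype F] in
theorem finrank_pow_Q {a : F[X]} (ha : a.Monic) : ∀ t, finrank F (Pow (Q a ha) t).V = a.natDegree * t
  | 0 => by rw [Nat.mul_zero]; exact finrank_zero_of_subsingleton (R := F) (M := PUnit.{u + 1})
  | t + 1 => by
    rw [pow_succ_eq, finrank_prod_obj, finrank_Q, finrank_pow_Q ha t]
    ring

/-- Thompson's theorem for fields with at least four elements. -/
theorem comm_large (h4 : 4 ≤ Fintype.card F) (A : Obj F) (hdet : A.det = 1) : Comm A := by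
  classical
  obtain ⟨N, hN⟩ : ∃ N, finrank F A.V = N := ⟨_, rfl⟩
  induction N using Nat.strong_induction_on generalizing A with
  | _ N ih =>
  have split : ∀ U W : Obj F, A.Iso (U.prod W) → 0 < finrank F U.V → U.det = 1 → Comm U → Comm A := by
    intro U W hi hpos hU hc
    have h1 : W.det = 1 := by rw [hi.det_eq, Obj.det_prod, hU, one_mul] at hdet; exact hdet
    obtain ⟨e, -⟩ := id hi
    have h2 : finrank F W.V < N := by rw [← hN, e.finrank_eq, finrank_prod_obj]; omega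
    exact Comm.of_iso hi.symm (hc.prod (ih _ h2 W h1 rfl))
  rcases standard A with ⟨a, ha, R, hd, hi⟩ | ⟨lam, a, ha, s, t, hd, hcond, hi⟩
  · have h1 := hdet
    rw [hi.det_eq, Obj.det_prod] at h1
    have hQ : (Q a ha).det ≠ 0 := fun e => by rw [e, zero_mul] at h1; exact zero_ne_one h1
    have hR : R.det ≠ 0 := fun e => by rw [e, mul_zero] at h1; exact zero_ne_one h1
    exact (chainFull_of_iso hi.symm (chainFull_prod h4 hQ hR
      (chainFull_cyc ha (cyc_Q a ha) hQ hd (Or.inr (exists_avoid h4))))).comm hdet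
  have hdet' : lam ^ s * (Q a ha).det ^ t = 1 := by
    rw [hi.det_eq, Obj.det_prod, det_pow, det_pow, det_Lin] at hdet
    exact hdet
  obtain ⟨D, hD⟩ : ∃ D, D = (Q a ha).det := ⟨_, rfl⟩
  rw [← hD] at hdet'
  match t, hcond, hi, hdet' with
  | 0, _, hi, hdet' =>
    rw [pow_zero, mul_one] at hdet'
    exact Comm.of_iso (hi.trans (prod_zero _)).symm (comm_scalar_pow lam s hdet')
  | 1, hcond, hi, _ =>
    have hi' := hi.trans ((Obj.Iso.refl _).prod (pow_one_iso (Q a ha)))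
    exact Comm.of_iso hi'.symm (comm_one_block h4 ha hd (by rcases hcond with h | h | h; exacts [Or.inl h, absurd h one_ne_zero, Or.inr h])
      (by rw [← hi'.det_eq]; exact hdet))
  | t + 2, hcond, hi, hdet' =>
    have hD0 : D ≠ 0 := fun e => by rw [e, zero_pow (by omega), mul_zero] at hdet'; exact zero_ne_one hdet'
    by_cases h6 : 6 ≤ Fintype.card F
    · have hDQ : (Q a ha).det ≠ 0 := hD ▸ hD0
      have h2 : ChainFull ((Q a ha).prod (Q a ha)) :=
        chainFull_two_two h6 ha (cyc_Q a ha) hd hDQ ha (cyc_Q a ha) hd hDQ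
      have hi' : A.Iso (((Q a ha).prod (Q a ha)).prod ((Pow (Lin lam) s).prod (Pow (Q a ha) t))) := by
        rw [pow_succ_eq, pow_succ_eq] at hi
        exact hi.trans (((Obj.Iso.refl _).prod (Obj.prod_assoc _ _ _).symm).trans (Obj.prod_left_comm _ _ _))
      refine (chainFull_of_iso hi'.symm (chainFull_prod h4 (by rw [Obj.det_prod]; exact mul_ne_zero hDQ hDQ) ?_ h2)).comm hdet
      intro e
      rw [hi'.det_eq, Obj.det_prod, e, mul_zero] at hdet
      exact zero_ne_one hdet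
    have hfin : finrank F (Q a ha).V = 2 := (finrank_Q a ha).trans hd
    by_cases hD1 : D = 1
    · have h2 : Comm (Pow (Q a ha) (t + 2)) := by
        generalize t + 2 = k
        induction k with
        | zero => exact comm_zero
        | succ k ihk => exact (comm_two (exists_avoid h4) ha (cyc_Q a ha) hd (hD ▸ hD1)).prod ihk
      rw [hD1, one_pow, mul_one] at hdet'
      exact Comm.of_iso hi.symm ((comm_scalar_pow lam s hdet').prod h2)
    -- splitting off scalars or equal blocks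
    have splitScalar : ∀ (U : Obj F) (x : F) (k n : ℕ), A.Iso ((Pow (Lin x) n).prod U) → 1 ≤ k → k ≤ n →
        x ^ k = 1 → Comm A := by
      intro U x k n hiso hk1 hkn hx
      obtain ⟨r, rfl⟩ : ∃ r, n = k + r := ⟨n - k, by omega⟩
      refine split (Pow (Lin x) k) ((Pow (Lin x) r).prod U)
        (hiso.trans (((pow_add_iso _ _ _).prod (Obj.Iso.refl _)).trans (Obj.prod_assoc _ _ _))) ?_ ?_
        (comm_scalar_pow x k hx)
      · rw [finrank_pow_Lin]; omega
      · rw [det_pow, det_Lin, hx]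
    have hDordpos : 0 < orderOf D := (isOfFinOrder_iff_pow_eq_one.mpr ⟨Fintype.card F - 1, by omega, FiniteField.pow_card_sub_one_eq_one D hD0⟩).orderOf_pos
    have splitBlocks : orderOf D ≤ t + 2 → Comm A := by
      intro hle
      obtain ⟨r, hr⟩ : ∃ r, t + 2 = orderOf D + r := ⟨t + 2 - orderOf D, by omega⟩
      rw [hr] at hi
      refine split (Pow (Q a ha) (orderOf D)) ((Pow (Lin lam) s).prod (Pow (Q a ha) r))
        (hi.trans (((Obj.Iso.refl _).prod (pow_add_iso _ _ _)).trans (Obj.prod_left_comm _ _ _))) ?_ ?_ ?_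
      · rw [finrank_pow_Q, hd]; omega
      · rw [det_pow, ← hD, pow_orderOf_eq_one]
      · rcases Nat.lt_or_ge 2 (orderOf D) with h | h
        · exact comm_equal_blocks ha (cyc_Q a ha) hd (hD ▸ IsPrimitiveRoot.orderOf D) h
        · have h2 : orderOf D = 2 := by
            rcases Nat.lt_or_ge (orderOf D) 2 with h' | h'
            · exact absurd (orderOf_eq_one_iff.mp (by omega)) hD1
            · omega
          rw [h2]
          refine comm_two_two (exists_avoid h4) ha (cyc_Q a ha) hd ?_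
          rw [← hD]
          have h3 : D ^ 2 = 1 := h2 ▸ pow_orderOf_eq_one D
          exact (sq_eq_one_iff.mp h3).resolve_left hD1
    by_cases hU3 : orderOf D ≤ t + 2
    · exact splitBlocks hU3
    by_cases hU2 : ∃ k, 1 ≤ k ∧ k ≤ s ∧ lam ^ k = 1
    · obtain ⟨k, hk1, hk2, hk3⟩ := hU2
      exact splitScalar _ lam k s hi hk1 hk2 hk3
    push Not at hU2
    have hs : 1 ≤ s := by
      rcases Nat.eq_zero_or_pos s with rfl | h
      · rw [pow_zero, one_mul] at hdet'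
        exact absurd (Nat.le_of_dvd (by omega) (orderOf_dvd_of_pow_eq_one hdet')) hU3
      · exact h
    have hroot : a.eval lam = 0 := by
      rcases hcond with h | h | h
      · omega
      · omega
      · exact h
    obtain ⟨μ, rfl⟩ := eq_mul_of_root ha hd hroot
    have hDlm : D = lam * μ := by
      rw [hD, det_Q, hd, neg_one_sq, one_mul, mul_coeff_zero, coeff_sub, coeff_sub, coeff_X_zero, coeff_C_zero,
        coeff_C_zero]
      ring
    have hlam0 : lam ≠ 0 := fun e => hD0 (by rw [hDlm, e, zero_mul])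
    have hμ0 : μ ≠ 0 := fun e => hD0 (by rw [hDlm, e, mul_zero])
    by_cases hU1 : ∃ j ≤ s, lam ^ j * D = 1
    · obtain ⟨j, hj, hjD⟩ := hU1
      obtain ⟨r, rfl⟩ : ∃ r, s = j + r := ⟨s - j, by omega⟩
      have hdetU : ((Pow (Lin lam) j).prod (Q _ ha)).det = 1 := by
        rw [Obj.det_prod, det_pow, det_Lin, ← hD, hjD]
      refine split ((Pow (Lin lam) j).prod (Q _ ha)) ((Pow (Lin lam) r).prod (Pow (Q _ ha) (t + 1)))
        (hi.trans (((pow_add_iso _ _ _).prod (Obj.Iso.refl _)).trans (Obj.prod_four _ _ _ _))) ?_ hdetU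
        (comm_one_block h4 ha hd (Or.inr hroot) hdetU)
      rw [finrank_prod_obj, hfin]; omega
    push Not at hU1
    have key : lam ≠ μ ∧ ((∃ k, 1 ≤ k ∧ k ≤ s + (t + 2) ∧ lam ^ k = 1) ∨ ∃ k, 1 ≤ k ∧ k ≤ t + 2 ∧ μ ^ k = 1) := by
      obtain ⟨g, hg⟩ := IsCyclic.exists_generator (α := Fˣ)
      obtain ⟨m, hm⟩ : ∃ m, m = Fintype.card F - 1 := ⟨_, rfl⟩
      have hgo : orderOf g = m := by
        rw [orderOf_eq_card_of_forall_mem_zpowers hg, Nat.card_eq_fintype_card, Fintype.card_units, hm]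
      have hexp : ∀ x : F, x ≠ 0 → ∃ i < m, ((g : F)) ^ i = x := by
        intro x hx
        have h1 : Units.mk0 x hx ∈ Submonoid.powers g := mem_powers_iff_mem_zpowers.mpr (hg _)
        obtain ⟨i, hi⟩ := h1
        refine ⟨i % m, Nat.mod_lt _ (by omega), ?_⟩
        rw [← hgo, ← Units.val_pow_eq_pow_val, pow_mod_orderOf]
        exact congrArg Units.val hi
      have hone : ∀ i, (g : F) ^ i = 1 ↔ i % m = 0 := by
        intro i
        rw [← Units.val_pow_eq_pow_val, Units.val_eq_one, ← orderOf_dvd_iff_pow_eq_one, hgo,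
          Nat.dvd_iff_mod_eq_zero]
      obtain ⟨i, him, hgi⟩ := hexp lam hlam0
      obtain ⟨j, hjm, hgj⟩ := hexp μ hμ0
      have hp : ∀ k, lam ^ k = 1 ↔ (k * i) % m = 0 := fun k => by
        rw [← hgi, ← pow_mul, hone, Nat.mul_comm]
      have hq : ∀ k, μ ^ k = 1 ↔ (k * j) % m = 0 := fun k => by
        rw [← hgj, ← pow_mul, hone, Nat.mul_comm]
      have hsm : s < m := by
        by_contra hle
        exact hU2 m (by omega) (by omega) ((hp m).mpr (Nat.mul_mod_right m i))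
      have htm : t + 2 < m := by
        have : orderOf D ≤ m := by
          refine Nat.le_of_dvd (by omega) (orderOf_dvd_of_pow_eq_one ?_)
          rw [hDlm, mul_pow, (hp m).mpr (Nat.mul_mod_right m i), (hq m).mpr (Nat.mul_mod_right m j), one_mul]
        omega
      have := small_exponents m (by rw [hm]; simp; omega) i him j hjm s hsm (t + 2) htm hs (by omega)
        (by rw [← hone, pow_add, Nat.mul_comm s i, Nat.mul_comm (t + 2) (i + j), pow_mul, pow_mul,
          pow_add (g : F) i j, hgi, hgj, ← hDlm]; exact hdet')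
        (fun k _ hk1 hk2 h => hU2 k hk1 hk2 ((hp k).mpr h))
        (fun k _ hk1 hk2 h => hU3 (le_trans (Nat.le_of_dvd (by omega) (orderOf_dvd_of_pow_eq_one (by
          rw [hDlm, mul_pow, ← hgi, ← hgj, ← pow_mul, ← pow_mul, ← pow_add, hone, ← Nat.add_mul, Nat.mul_comm]
          exact h))) hk2))
      rcases this with ⟨k, _, hk2, hk3⟩ | ⟨hne, h⟩
      · refine absurd ?_ (hU1 k hk2)
        rw [hDlm, ← hgi, ← hgj, ← pow_mul, ← pow_add, ← pow_add, hone, Nat.mul_comm i k]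
        exact hk3
      · refine ⟨fun e => hne ?_, ?_⟩
        · have h1 : g ^ i = g ^ j := Units.ext (by push_cast; rw [hgi, hgj, e])
          rw [pow_eq_pow_iff_modEq, hgo, Nat.ModEq, Nat.mod_eq_of_lt him, Nat.mod_eq_of_lt hjm] at h1
          exact h1
        · rcases h with ⟨k, -, h1, h2, h3⟩ | ⟨k, -, h1, h2, h3⟩
          · exact Or.inl ⟨k, h1, h2, (hp k).mpr h3⟩
          · exact Or.inr ⟨k, h1, h2, (hq k).mpr h3⟩
    obtain ⟨hne, hcase⟩ := key
    have hi2 : A.Iso ((Pow (Lin lam) (s + (t + 2))).prod (Pow (Lin μ) (t + 2))) :=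
      hi.trans (((Obj.Iso.refl _).prod (pow_pair_iso hne (t + 2)).symm).trans
        ((Obj.prod_assoc _ _ _).symm.trans ((pow_add_iso _ _ _).symm.prod (Obj.Iso.refl _))))
    rcases hcase with ⟨k, hk1, hk2, hk3⟩ | ⟨k, hk1, hk2, hk3⟩
    · exact splitScalar _ lam k _ hi2 hk1 hk2 hk3
    · exact splitScalar _ μ k _ (hi2.trans (Obj.prod_comm _ _)) hk1 hk2 hk3

end Cfsg.Agent.Classical.Thompson
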