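import Cfsg.Agent.Lib.Classical.Thompson.Conv

/-!
# Scalars, pseudo-reflections and small pairs
-/

set_option autoImplicit false

namespace Cfsg.Agent.Classical.Thompson

open Polynomial Module

universe u

variable {F : Type u} [Field F]

/-- Iterated direct sums. -/
noncomputable def Pow (A : Obj F) : ℕ → Obj F
  | 0 => Zero F
  | t + 1 => A.prod (Pow A t)

theorem pow_zero' (A : Obj F) : Pow A 0 = Zero F := rfl

theorem pow_succ_eq (A : Obj F) (t : ℕ) : Pow A (t + 1) = A.prod (Pow A t) := rfl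

theorem pow_add_iso (A : Obj F) : ∀ s t : ℕ, (Pow A (s + t)).Iso ((Pow A s).prod (Pow A t))
  | 0, t => by rw [Nat.zero_add]; exact (zero_prod _).symm
  | s + 1, t => by
    rw [show s + 1 + t = s + t + 1 by omega, pow_succ_eq, pow_succ_eq]
    exact ((Obj.Iso.refl A).prod (pow_add_iso A s t)).trans (Obj.prod_assoc _ _ _).symm

theorem pow_one_iso (A : Obj F) : (Pow A 1).Iso A := prod_zero A

theorem det_pow (A : Obj F) : ∀ t : ℕ, (Pow A t).det = A.det ^ t
  | 0 => by rw [pow_zero', det_Zero, pow_zero]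
  | t + 1 => by rw [pow_succ_eq, Obj.det_prod, det_pow A t, pow_succ']

theorem pow_Lin_apply (c : F) : ∀ (s : ℕ) (v : (Pow (Lin c) s).V), (Pow (Lin c) s).T v = c • v
  | 0, _ => rfl
  | s + 1, v => Prod.ext rfl (pow_Lin_apply c s v.2)

theorem finrank_pow_Lin (c : F) : ∀ s : ℕ, finrank F (Pow (Lin c) s).V = s
  | 0 => finrank_zero_of_subsingleton (R := F) (M := PUnit.{u + 1})
  | s + 1 => by
    show finrank F (F × (Pow (Lin c) s).V) = _
    rw [Module.finrank_prod, Module.finrank_self, finrank_pow_Lin c s, add_comm]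

/-- Scalars are determined by the dimension. -/
theorem iso_pow_Lin {A : Obj F} {c : F} (h : ∀ v, A.T v = c • v) {s : ℕ} (hs : finrank F A.V = s) :
    A.Iso (Pow (Lin c) s) := by
  refine ⟨LinearEquiv.ofFinrankEq _ _ (by rw [hs, finrank_pow_Lin]), fun v => ?_⟩
  rw [h, map_smul, pow_Lin_apply]

theorem comm_zero : Comm (Zero F) :=
  ⟨1, 1, map_one _, map_one _, LinearMap.ext fun _ => Subsingleton.elim _ _⟩

theorem comm_one (s : ℕ) : Comm (Pow (Lin (1 : F)) s) := by
  refine ⟨1, 1, map_one _, map_one _, LinearMap.ext fun v => ?_⟩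
  show v = (Pow (Lin (1 : F)) s).T v
  rw [pow_Lin_apply, one_smul]

/-- Scalar maps whose size is the order of the scalar. -/
theorem comm_scalar [Finite F] (c : F) {m : ℕ} (hc : IsPrimitiveRoot c m) (hm : 0 < m) :
    Comm (Pow (Lin c) m) := by
  classical
  haveI : NeZero m := ⟨by omega⟩
  obtain ⟨a, ha⟩ : ∃ a : F, a = (-1) ^ (m + 1) := ⟨_, rfl⟩
  have ha0 : a ≠ 0 := ha ▸ pow_ne_zero _ (neg_ne_zero.mpr one_ne_zero)
  obtain ⟨f, hf⟩ : ∃ f : F[X], f = X ^ m - C a := ⟨_, rfl⟩
  have hfm : f.Monic := hf ▸ monic_X_pow_sub_C a (by omega)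
  have hfd : f.natDegree = m := hf ▸ natDegree_X_pow_sub_C
  have haev : ∀ x : AdjoinRoot f, aeval x f = x ^ m - algebraMap F (AdjoinRoot f) a := by
    intro x
    calc aeval x f = aeval x (X ^ m - C a : F[X]) := congrArg (fun p : F[X] => aeval x p) hf
      _ = _ := by rw [map_sub, aeval_X_pow, aeval_C]
  have hroot : aeval (c • AdjoinRoot.root f) f = 0 := by
    have h1 : AdjoinRoot.root f ^ m = algebraMap F (AdjoinRoot f) a := by
      rw [← sub_eq_zero, ← haev, AdjoinRoot.aeval_eq, AdjoinRoot.mk_self]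
    rw [haev, _root_.smul_pow, hc.pow_eq_one, one_smul, h1, sub_self]
  let φ : AdjoinRoot f →ₐ[F] AdjoinRoot f :=
    AdjoinRoot.liftAlgHom f (Algebra.ofId F (AdjoinRoot f)) (c • AdjoinRoot.root f) hroot
  have hφroot : φ (AdjoinRoot.root f) = c • AdjoinRoot.root f := AdjoinRoot.liftAlgHom_root ..
  haveI : FiniteDimensional F (AdjoinRoot f) := Module.Finite.of_basis (AdjoinRoot.powerBasis' hfm).basis
  have hc0 : c ≠ 0 := hc.ne_zero (by omega)
  have hsurj : Function.Surjective φ := by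
    rw [← AlgHom.range_eq_top, eq_top_iff, ← AdjoinRoot.adjoinRoot_eq_top, Algebra.adjoin_le_iff,
      Set.singleton_subset_iff]
    exact ⟨c⁻¹ • AdjoinRoot.root f, by
      show φ (c⁻¹ • AdjoinRoot.root f) = _
      rw [map_smul, hφroot, smul_smul, inv_mul_cancel₀ hc0, one_smul]⟩
  let e : AdjoinRoot f ≃ₗ[F] AdjoinRoot f := LinearEquiv.ofBijective φ.toLinearMap
    ⟨(LinearMap.injective_iff_surjective_of_finrank_eq_finrank rfl).mpr hsurj, hsurj⟩
  have hconv : Conv (⟨AdjoinRoot f, c • LinearMap.id⟩ : Obj F) (Q f hfm) (Q f hfm) := by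
    refine ⟨LinearMap.mulLeft F (AdjoinRoot.root f), Obj.Iso.refl _, Obj.Iso.symm ⟨e, fun v => ?_⟩⟩
    show φ (AdjoinRoot.root f * v) = c • (AdjoinRoot.root f * φ v)
    rw [map_mul, hφroot, smul_mul_assoc]
  have hdet : (Q f hfm).det = 1 := by
    rw [det_Q, hfd, hf, coeff_sub, coeff_X_pow, if_neg (by omega), coeff_C_zero, zero_sub, ha,
      mul_neg, ← pow_add, show m + (m + 1) = 2 * m + 1 by omega, pow_succ, pow_mul, neg_one_sq, one_pow,
      one_mul, neg_neg]
  have hsep : f.Separable := hf ▸ separable_X_pow_sub_C a (hc.neZero'.ne) ha0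
  obtain ⟨h, hhm, hhi, r, hr⟩ := Polynomial.exists_monic_irreducible_factor f
    (fun hu => by have := natDegree_eq_zero_of_isUnit hu; omega)
  have hrm : r.Monic := hhm.of_mul_monic_left (hr ▸ hfm)
  have hcop : IsCoprime h r := (hr ▸ hsep).isCoprime
  have hfull : Full (Q f hfm) := by
    subst hr
    exact Full.of_iso (Q_mul_iso hhm hrm hcop).symm (full_Q_irreducible hhm hhi).prod_left
  refine Comm.of_iso (iso_pow_Lin (fun v => rfl) ?_) (comm_of_conv hconv (Obj.Iso.refl _) hdet hfull)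
  exact (finrank_Q f hfm).trans hfd

/-- Normal form of a pseudo-reflection. -/
theorem iso_reflection {A : Obj F} {lam μ : F} (hlam : lam ≠ 0) (φ : A.V →ₗ[F] F) (w : A.V) (hφ : φ ≠ 0)
    (hw : w ≠ 0) (hT : ∀ x, A.T x = lam • x + φ x • w) {s : ℕ} (hn : finrank F A.V = s + 2)
    (hdet : A.det = lam ^ (s + 1) * μ) :
    A.Iso ((Pow (Lin lam) s).prod (Q _ ((monic_X_sub_C lam).mul (monic_X_sub_C μ)))) := by
  classical
  obtain ⟨v0, hv0⟩ : ∃ v, φ v ≠ 0 := by
    by_contra h
    push Not at h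
    exact hφ (LinearMap.ext fun x => by simp [h x])
  obtain ⟨v, hv, hvw⟩ : ∃ v, φ v ≠ 0 ∧ v ∉ Submodule.span F {w} := by
    by_cases hin : v0 ∈ Submodule.span F {w}
    · obtain ⟨x, hx, hx0⟩ : ∃ x ∈ LinearMap.ker φ, x ≠ 0 := by
        refine Submodule.exists_mem_ne_zero_of_ne_bot fun hk => ?_
        have := (LinearMap.ker_eq_bot.mp hk)
        have h1 := LinearMap.finrank_le_finrank_of_injective this
        rw [hn, Module.finrank_self] at h1
        omega
      refine ⟨v0 + x, by rwa [map_add, LinearMap.mem_ker.mp hx, add_zero], fun h => ?_⟩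
      have hxs : x ∈ Submodule.span F {w} := by
        have := Submodule.sub_mem _ h hin
        simpa using this
      obtain ⟨a, ha⟩ := Submodule.mem_span_singleton.mp hxs
      obtain ⟨b, hb⟩ := Submodule.mem_span_singleton.mp hin
      have ha0 : a ≠ 0 := fun h0 => hx0 (by rw [← ha, h0, zero_smul])
      have hw0 : φ w = 0 := by
        have := LinearMap.mem_ker.mp hx
        rw [← ha, map_smul, smul_eq_mul] at this
        exact (mul_eq_zero.mp this).resolve_left ha0
      exact hv0 (by rw [← hb, map_smul, hw0, smul_zero])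
    · exact ⟨v0, hv0, hin⟩
  obtain ⟨ν, hν⟩ : ∃ ν, ν = lam + φ w := ⟨_, rfl⟩
  let W : Submodule F A.V := Submodule.span F {v, w}
  have hAw : A.T w = ν • w := by rw [hT, hν, add_smul]
  have hAv : A.T v = lam • v + φ v • w := hT v
  have hWinv : W ≤ W.comap A.T := by
    refine Submodule.span_le.mpr ?_
    rintro x (rfl | rfl)
    · show A.T x ∈ W
      rw [hAv]
      exact add_mem (Submodule.smul_mem _ _ (Submodule.subset_span (by simp)))
        (Submodule.smul_mem _ _ (Submodule.subset_span (by simp)))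
    · show A.T x ∈ W
      rw [hAw]
      exact Submodule.smul_mem _ _ (Submodule.subset_span (by simp))
  obtain ⟨K0, hK0⟩ := (W.comap (LinearMap.ker φ).subtype).exists_isCompl
  let K : Submodule F A.V := K0.map (LinearMap.ker φ).subtype
  have hKker : ∀ x ∈ K, φ x = 0 := by
    rintro x ⟨y, -, rfl⟩
    exact y.2
  have hcompl : IsCompl W K := by
    constructor
    · rw [Submodule.disjoint_def]
      rintro x hx ⟨y, hy, rfl⟩
      have h1 : y ∈ W.comap (LinearMap.ker φ).subtype ⊓ K0 := ⟨hx, hy⟩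
      rw [hK0.inf_eq_bot, Submodule.mem_bot] at h1
      rw [h1, map_zero]
    · rw [codisjoint_iff, eq_top_iff]
      rintro x -
      have hmem : x - (φ x / φ v) • v ∈ LinearMap.ker φ := by
        rw [LinearMap.mem_ker, map_sub, map_smul, smul_eq_mul, div_mul_cancel₀ _ hv, sub_self]
      have h1 : (⟨_, hmem⟩ : LinearMap.ker φ) ∈ W.comap (LinearMap.ker φ).subtype ⊔ K0 := by
        rw [hK0.sup_eq_top]; trivial
      obtain ⟨a, ha, b, hb, hab⟩ := Submodule.mem_sup.mp h1
      rw [show x = ((φ x / φ v) • v + (a : A.V)) + (b : A.V) by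
        rw [add_assoc, ← Submodule.coe_add, hab]
        simp]
      exact Submodule.add_mem_sup (add_mem (Submodule.smul_mem _ _ (Submodule.subset_span (by simp))) ha)
        ⟨b, hb, rfl⟩
  let AW : Obj F := ⟨W, A.T.restrict hWinv⟩
  let AK : Obj F := ⟨K, lam • LinearMap.id⟩
  have hiso : A.Iso (AW.prod AK) := by
    refine Obj.Iso.symm ⟨Submodule.prodEquivOfIsCompl W K hcompl, fun x => ?_⟩
    show ((A.T x.1 : A.V)) + lam • (x.2 : A.V) = A.T ((x.1 : A.V) + (x.2 : A.V))
    rw [map_add, hT x.2, hKker _ x.2.2, zero_smul, add_zero]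
  have hintW : ∀ (p : F[X]) (x : W), ((aeval AW.T p x : W) : A.V) = aeval A.T p (x : A.V) := fun p x =>
    aeval_intertwine (A := AW) (B := A) W.subtype (fun _ => rfl) p x
  have hvW : v ∈ W := Submodule.subset_span (by simp)
  have hv1 : v ≠ 0 := fun h => hv (by rw [h, map_zero])
  have hrk : finrank F W = 2 := by
    show finrank F (Submodule.span F {v, w}) = 2
    have h1 : LinearIndependent F ![v, w] := by
      rw [LinearIndependent.pair_iff]
      intro a b hab
      by_cases ha : a = 0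
      · subst ha
        rw [zero_smul, zero_add, smul_eq_zero] at hab
        exact ⟨rfl, hab.resolve_right hw⟩
      · exfalso
        refine hvw (Submodule.mem_span_singleton.mpr ⟨-(a⁻¹ * b), ?_⟩)
        have : a • (v - (-(a⁻¹ * b)) • w) = 0 := by
          rw [smul_sub, smul_smul, mul_neg, ← mul_assoc, mul_inv_cancel₀ ha, one_mul, neg_smul, sub_neg_eq_add, hab]
        exact (sub_eq_zero.mp ((smul_eq_zero.mp this).resolve_left ha)).symm
    have := finrank_span_eq_card h1
    rw [Fintype.card_fin] at this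
    rwa [show Set.range ![v, w] = {v, w} by simp [Matrix.range_cons, Matrix.range_empty]; ext; simp [or_comm]] at this
  have hcyc : AW.Cyc ((X - C lam) * (X - C ν)) := by
    refine Obj.cyc_of_dim AW ((monic_X_sub_C _).mul (monic_X_sub_C _)) ⟨v, hvW⟩ (fun p => ?_) ?_
    · have hbase : ∀ r : F[X], aeval A.T r w = r.eval ν • w := fun r => by
        induction r using Polynomial.induction_on with
        | C a => simp [Module.algebraMap_end_apply]
        | add p q hp hq => simp [hp, hq, add_smul]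
        | monomial i a h =>
          rw [show C a * X ^ (i + 1) = X * (C a * X ^ i) by ring, map_mul, Module.End.mul_apply, aeval_X, h,
            map_smul, hAw, smul_smul, eval_mul, eval_mul, eval_X, eval_mul, mul_comm]
      obtain ⟨r, hr⟩ : X - C lam ∣ p - C (p.eval lam) := dvd_iff_isRoot.mpr (by simp [IsRoot.def])
      have hval : aeval A.T p v = p.eval lam • v + (r.eval ν * φ v) • w := by
        rw [show p = C (p.eval lam) + r * (X - C lam) by linear_combination hr]
        simp [Module.algebraMap_end_apply, hAv, hbase, smul_smul, mul_comm]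
      rw [← Submodule.coe_eq_zero, hintW, hval]
      constructor
      · intro h0
        have h1 : p.eval lam = 0 := by
          by_contra hne
          refine hvw (Submodule.mem_span_singleton.mpr ⟨-((p.eval lam)⁻¹ * (r.eval ν * φ v)), ?_⟩)
          have : p.eval lam • (v - (-((p.eval lam)⁻¹ * (r.eval ν * φ v))) • w) = 0 := by
            rw [smul_sub, smul_smul, mul_neg, ← mul_assoc, mul_inv_cancel₀ hne, one_mul, neg_smul, sub_neg_eq_add, h0]
          exact (sub_eq_zero.mp ((smul_eq_zero.mp this).resolve_left hne)).symm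
        rw [h1, zero_smul, zero_add, smul_eq_zero] at h0
        have h2 : r.eval ν = 0 := (mul_eq_zero.mp (h0.resolve_right hw)).resolve_right hv
        rw [h1, map_zero, sub_zero] at hr
        rw [hr]
        exact mul_dvd_mul_left _ (dvd_iff_isRoot.mpr h2)
      · rintro ⟨q, hq⟩
        have h1 : p.eval lam = 0 := by rw [hq]; simp
        rw [h1, map_zero, sub_zero, hq, mul_assoc] at hr
        have h2 : r.eval ν = 0 := by
          rw [← mul_left_cancel₀ (X_sub_C_ne_zero lam) hr]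
          simp
        simp [h1, h2]
    · rw [(monic_X_sub_C lam).natDegree_mul (monic_X_sub_C ν), natDegree_X_sub_C, natDegree_X_sub_C]
      exact hrk
  have hrK : finrank F K = s := by
    have h1 := Submodule.finrank_add_eq_of_isCompl hcompl
    omega
  have hνμ : ν = μ := by
    have h1 := hiso.det_eq
    rw [hdet, Obj.det_prod, hcyc.det_eq ((monic_X_sub_C _).mul (monic_X_sub_C _)),
      (iso_pow_Lin (A := AK) (c := lam) (fun _ => rfl) hrK).det_eq, det_pow, det_Lin,
      (monic_X_sub_C lam).natDegree_mul (monic_X_sub_C ν), natDegree_X_sub_C, natDegree_X_sub_C,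
      mul_coeff_zero, coeff_sub, coeff_sub, coeff_X_zero, coeff_C_zero, coeff_C_zero, pow_succ] at h1
    have h2 : (lam ^ s * lam) * (ν - μ) = 0 := by linear_combination -h1
    exact sub_eq_zero.mp ((mul_eq_zero.mp h2).resolve_left (mul_ne_zero (pow_ne_zero _ hlam) hlam))
  subst hνμ
  exact hiso.trans ((Obj.prod_comm _ _).trans ((iso_pow_Lin (A := AK) (c := lam) (fun _ => rfl) hrK).prod
    (hcyc.iso_Q _)))

/-- Pseudo-reflections times a nontrivial scalar. -/
theorem comm_reflection [Finite F] (h4 : ∀ x y : F, ∃ c : F, c ≠ x ∧ c ≠ y) {lam μ : F} (hlam : lam ≠ 1)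
    {s : ℕ} (hs : 1 ≤ s) (hdet : lam ^ (s + 1) * μ = 1) :
    Comm ((Pow (Lin lam) s).prod (Q _ ((monic_X_sub_C lam).mul (monic_X_sub_C μ)))) := by
  classical
  have hlam0 : lam ≠ 0 := by
    rintro rfl
    simp at hdet
  obtain ⟨σ, hσ⟩ : ∃ σ : F, σ = (-1) ^ (s + 1) := ⟨_, rfl⟩
  obtain ⟨b, hb1, hb2⟩ := h4 1 (-(1 + σ))
  let h1 : F[X] := X ^ (s + 1) + C b * X ^ s + C σ
  have h1m : h1.Monic := by simp only [h1]; monicity!
  have h1d : h1.natDegree = s + 1 := by simp only [h1]; compute_degree!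
  have h10 : h1.coeff 0 = σ := by
    simp [h1, coeff_X_pow, show (0 : ℕ) ≠ s by omega]
  have hcop : IsCoprime (X - C (1 : F)) h1 := by
    refine (irreducible_X_sub_C (1 : F)).coprime_iff_not_dvd.mpr ?_
    rw [dvd_iff_isRoot, IsRoot.def]
    simp only [h1, eval_add, eval_mul, eval_C, eval_pow, eval_X, one_pow, mul_one]
    intro h
    exact hb2 (by linear_combination h)
  obtain ⟨f, hf⟩ : ∃ f : F[X], f = (X - C 1) * h1 := ⟨_, rfl⟩
  have hfm : f.Monic := hf ▸ (monic_X_sub_C _).mul h1m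
  have hfd : f.natDegree = s + 2 := by
    rw [hf, (monic_X_sub_C _).natDegree_mul h1m, natDegree_X_sub_C, h1d]; ring
  have hf0 : f.coeff 0 = -σ := by rw [hf, mul_coeff_zero, h10]; simp
  have hfc : f.coeff (s + 1) = b - 1 := by
    rw [hf, sub_mul, coeff_sub, coeff_X_mul, coeff_C_mul, one_mul]
    simp only [h1, coeff_add, coeff_C_mul, coeff_X_pow, coeff_C, if_true, if_neg (show ¬s + 1 = s by omega),
      if_neg (show ¬s = s + 1 by omega), if_neg (show ¬s + 1 = 0 by omega), if_neg (show ¬s = 0 by omega)]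
    ring
  have hdetQ : (Q f hfm).det = 1 := by
    rw [det_Q, hfd, hf0, hσ, mul_neg, ← pow_add, show s + 2 + (s + 1) = 2 * (s + 1) + 1 by omega, pow_succ,
      pow_mul, neg_one_sq, one_pow, one_mul, neg_neg]
  have hQf0 : (Q f hfm).det ≠ 0 := by rw [hdetQ]; exact one_ne_zero
  haveI : FiniteDimensional F (Q f hfm).V := (Q f hfm).fd
  obtain ⟨K, hK1, -⟩ := (cyc_Q f hfm).coords hfm hQf0 hfd.symm
  obtain ⟨S, hS⟩ : ∃ S : Module.End F (Q f hfm).V, S = (Q f hfm).T := ⟨_, rfl⟩
  have hH : K.Hess (s + 1) S := by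
    intro j hj
    rw [hS, hK1 j (by omega)]
    refine ⟨fun i hi hin => by rw [K.dual i hin (j + 1) (by omega), if_neg (by omega)], ?_⟩
    rw [K.dual (j + 1) (by omega) (j + 1) (by omega), if_pos rfl]
    exact one_ne_zero
  obtain ⟨g, hg⟩ : ∃ g : F[X], g = C (lam ^ (s + 2))⁻¹ * f.comp (C lam * X) := ⟨_, rfl⟩
  have hgc : ∀ i, g.coeff i = (lam ^ (s + 2))⁻¹ * (f.coeff i * lam ^ i) := fun i => by
    rw [hg, coeff_C_mul, comp_C_mul_X_coeff]
  have hgm : g.Monic := by
    refine monic_of_natDegree_le_of_coeff_eq_one (s + 2) ?_ ?_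
    · refine natDegree_le_iff_coeff_eq_zero.mpr fun i hi => ?_
      rw [hgc, coeff_eq_zero_of_natDegree_lt (by omega), zero_mul, mul_zero]
    · rw [hgc, show f.coeff (s + 2) = 1 from hfd ▸ hfm, one_mul, inv_mul_cancel₀ (pow_ne_zero _ hlam0)]
  have hgd : g.natDegree = s + 2 := by
    refine natDegree_eq_of_le_of_coeff_ne_zero (natDegree_le_iff_coeff_eq_zero.mpr fun i hi => ?_) ?_
    · rw [hgc, coeff_eq_zero_of_natDegree_lt (by omega), zero_mul, mul_zero]
    · rw [hgc, show f.coeff (s + 2) = 1 from hfd ▸ hfm, one_mul, inv_mul_cancel₀ (pow_ne_zero _ hlam0)]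
      exact one_ne_zero
  have hgf : g ≠ f := by
    intro h
    have h2 := hgc (s + 1)
    rw [h, hfc] at h2
    have h3 : (b - 1) * (lam ^ (s + 1) * (lam - 1)) = 0 := by
      rw [eq_inv_mul_iff_mul_eq₀ (pow_ne_zero _ hlam0), pow_succ _ (s + 1)] at h2
      linear_combination h2
    rcases mul_eq_zero.mp h3 with h4 | h4
    · exact hb1 (sub_eq_zero.mp h4)
    · exact hlam (sub_eq_zero.mp ((mul_eq_zero.mp h4).resolve_left (pow_ne_zero _ hlam0)))
  obtain ⟨M, hM, -, hMc⟩ := K.complete rfl hH g hgm hgd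
  -- the scaled map
  have hscale : (⟨(Q f hfm).V, lam • M⟩ : Obj F).Cyc f := by
    obtain ⟨v, hv, -⟩ := hMc
    have hsc : ∀ (p : F[X]) (x : (Q f hfm).V), aeval (lam • M) p x = aeval M (p.comp (C lam * X)) x := by
      intro p x
      rw [aeval_comp, map_mul, aeval_C, aeval_X, ← Algebra.smul_def]
    have hmulcomp : ∀ p q : F[X], p.comp (C lam * X) ∣ q.comp (C lam * X) → p ∣ q := by
      rintro p q ⟨r, hr⟩
      refine ⟨r.comp (C lam⁻¹ * X), ?_⟩
      have h5 := congrArg (fun z => z.comp (C lam⁻¹ * X)) hr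
      simp only [mul_comp, comp_assoc, C_comp, X_comp, ← mul_assoc, ← C_mul, mul_inv_cancel₀ hlam0, C_1,
        one_mul, comp_X] at h5
      exact h5
    have hgfcomp : f.comp (C lam * X) = C (lam ^ (s + 2)) * g := by
      rw [hg, ← mul_assoc, ← C_mul, mul_inv_cancel₀ (pow_ne_zero _ hlam0), C_1, one_mul]
    refine Obj.cyc_of_dim _ hfm v (fun p => ?_) (by rw [hfd]; exact K.finrank_eq)
    show aeval (lam • M) p v = 0 ↔ f ∣ p
    rw [hsc]
    refine (hv _).trans ⟨fun h => hmulcomp f p ?_, fun h => ?_⟩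
    · rw [hgfcomp]
      exact (IsUnit.mul_left_dvd (isUnit_C.mpr (isUnit_iff_ne_zero.mpr (pow_ne_zero _ hlam0)))).mpr h
    · obtain ⟨r, rfl⟩ := h
      rw [mul_comp, hgfcomp, mul_assoc, mul_left_comm]
      exact dvd_mul_right _ _
  let Si : (Q f hfm).V ≃ₗ[F] (Q f hfm).V :=
    LinearEquiv.ofIsUnitDet (v := Module.finBasis F _) (v' := Module.finBasis F _) (f := (Q f hfm).T)
      (by rw [LinearMap.det_toMatrix]; exact isUnit_iff_ne_zero.mpr hQf0)
  have hSi : ∀ x, Si x = S x := fun x => by rw [hS]; rfl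
  let A' : Obj F := ⟨(Q f hfm).V, (lam • M).comp Si.symm.toLinearMap⟩
  have hA'S : A'.T * S = lam • M := LinearMap.ext fun x => by
    show lam • M (Si.symm (S x)) = lam • M x
    rw [← hSi, Si.symm_apply_apply]
  have hconv : Conv A' (Q f hfm) (Q f hfm) := by
    refine ⟨S, by rw [hS]; exact Obj.Iso.refl _, ?_⟩
    rw [hA'S]
    exact hscale.iso_Q hfm
  let φ : (Q f hfm).V →ₗ[F] F := (K.ψ (s + 1)).comp Si.symm.toLinearMap
  let w : (Q f hfm).V := lam • (M (K.b (s + 1)) - S (K.b (s + 1)))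
  have hT : ∀ x, A'.T x = lam • x + φ x • w := by
    intro x
    obtain ⟨y, rfl⟩ := Si.surjective x
    show lam • M (Si.symm (Si y)) = lam • Si y + K.ψ (s + 1) (Si.symm (Si y)) • w
    rw [Si.symm_apply_apply, hSi]
    have hMS : M y = S y + K.ψ (s + 1) y • (M (K.b (s + 1)) - S (K.b (s + 1))) := by
      rw [K.map_eq M y, K.map_eq S y, Finset.sum_range_succ (fun l => K.ψ l y • M (K.b l)),
        Finset.sum_range_succ (fun l => K.ψ l y • S (K.b l)),
        Finset.sum_congr rfl (fun l hl => show K.ψ l y • M (K.b l) = K.ψ l y • S (K.b l) by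
          rw [hM l (Finset.mem_range.mp hl)])]
      rw [smul_sub]
      abel
    rw [hMS, smul_add, smul_comm]
  have hw : w ≠ 0 := by
    intro h
    refine hgf ?_
    have hMS : M = S := LinearMap.ext fun y => by
      rw [K.map_eq M y, K.map_eq S y]
      refine Finset.sum_congr rfl fun l hl => ?_
      rcases Nat.lt_or_ge l (s + 1) with h' | h'
      · rw [hM l h']
      · rw [show l = s + 1 by have := Finset.mem_range.mp hl; omega,
          sub_eq_zero.mp ((smul_eq_zero.mp h).resolve_left hlam0)]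
    rw [hMS, hS] at hMc
    exact (hMc.charpoly_eq hgm).symm.trans ((cyc_Q f hfm).charpoly_eq hfm)
  have hφ : φ ≠ 0 := by
    intro h
    have := LinearMap.congr_fun h (Si (K.b (s + 1)))
    simp [φ, K.dual (s + 1) (by omega) (s + 1) (by omega)] at this
  have hdetA' : A'.det = 1 := by
    have h1 := hconv.det_eq
    rwa [hdetQ, mul_one] at h1
  refine Comm.of_iso (iso_reflection (A := A') hlam0 φ w hφ hw hT K.finrank_eq (hdetA'.trans hdet.symm))
    (comm_of_conv hconv (Obj.Iso.refl _) hdetQ ?_)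
  subst hf
  exact Full.of_iso (Q_mul_iso (monic_X_sub_C _) h1m hcop).symm
    ((full_line (1 : F)).of_iso ((cyc_Lin (1 : F)).iso_Q _)).prod_left

/-- A cyclic block of size two of determinant one. -/
theorem comm_two [Finite F] (hcard : ∀ x y : F, ∃ c : F, c ≠ 0 ∧ c ≠ x ∧ c ≠ y) {A : Obj F} {a : F[X]}
    (ha : a.Monic) (hA : A.Cyc a) (hdeg : a.natDegree = 2) (hdet : A.det = 1) : Comm A := by
  obtain ⟨c, hc0, hc1, hc2⟩ := hcard 1 (-1)
  have hne : c ≠ c⁻¹ := by
    intro h
    have h1 : c ^ 2 = 1 := by rw [sq]; nth_rw 2 [h]; exact mul_inv_cancel₀ hc0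
    rcases sq_eq_one_iff.mp h1 with h2 | h2
    · exact hc1 h2
    · exact hc2 h2
  have key := conv_linear ha hA (by rw [hdet]; exact one_ne_zero) (t := 1) hdeg (fun _ => c)
    (fun _ _ => hc0) c⁻¹ (fun _ _ => ⟨hne, by rwa [hdet, mul_one]⟩)
  refine comm_of_conv key (by rw [hdet, mul_one]; exact Obj.Iso.refl _) ?_ (full_line _).prod_left
  rw [Obj.det_prod, det_Lin, det_Q, natDegree_prod_linear, coeff_zero_prod_linear]
  simp [hc0]

/-- One block of size two with a prescribed remaining scalar. -/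
theorem conv_two {A : Obj F} {a : F[X]} (ha : a.Monic) (hA : A.Cyc a) (hdeg : a.natDegree = 2)
    (hdet : A.det ≠ 0) (e c : F) (hc : c ≠ 0) (hce : c ≠ e) (hce' : c ≠ e * A.det) :
    ∃ P : Obj F, P.det = c ∧ Conv A ((Lin e).prod P) ((Lin (e * A.det)).prod P) := by
  refine ⟨_, ?_, conv_linear ha hA hdet (t := 1) hdeg (fun _ => c) (fun _ _ => hc) e (fun _ _ => ⟨hce, hce'⟩)⟩
  rw [det_Q, natDegree_prod_linear, coeff_zero_prod_linear]
  simp

/-- Two blocks of size two. -/
theorem chainFull_two_two [Fintype F] (h6 : 6 ≤ Fintype.card F) {A B : Obj F} {a b : F[X]} (ha : a.Monic)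
    (hA : A.Cyc a) (hdega : a.natDegree = 2) (hdetA : A.det ≠ 0) (hb : b.Monic) (hB : B.Cyc b)
    (hdegb : b.natDegree = 2) (hdetB : B.det ≠ 0) : ChainFull (A.prod B) := by
  classical
  intro e δ he hδ
  obtain ⟨e1, he1⟩ : ∃ x, x = e * A.det := ⟨_, rfl⟩
  have he10 : e1 ≠ 0 := he1 ▸ mul_ne_zero he hdetA
  let U : Finset F := (Finset.univ.erase 0) \ {e, e1}
  let V : Finset F := (Finset.univ.erase 0) \ {e1, e1 * B.det}
  let φ : F → F := fun c => δ / (e1 * c)
  have hU : Fintype.card F - 3 ≤ U.card := by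
    have h1 := Finset.le_card_sdiff ({e, e1} : Finset F) (Finset.univ.erase 0)
    have h2 : ({e, e1} : Finset F).card ≤ 2 := Finset.card_le_two
    rw [Finset.card_erase_of_mem (Finset.mem_univ _), Finset.card_univ] at h1
    simp only [U]
    omega
  have hV : Fintype.card F - 3 ≤ V.card := by
    have h1 := Finset.le_card_sdiff ({e1, e1 * B.det} : Finset F) (Finset.univ.erase 0)
    have h2 : ({e1, e1 * B.det} : Finset F).card ≤ 2 := Finset.card_le_two
    rw [Finset.card_erase_of_mem (Finset.mem_univ _), Finset.card_univ] at h1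
    simp only [V]
    omega
  have himg : (U.image φ).card = U.card := by
    refine Finset.card_image_of_injOn fun x hx y hy hxy => ?_
    have hx0 : x ≠ 0 := by simp [U] at hx; exact hx.1
    have hy0 : y ≠ 0 := by simp [U] at hy; exact hy.1
    simp only [φ] at hxy
    field_simp at hxy
    exact hxy.symm
  obtain ⟨c', hc'1, hc'2⟩ : ∃ x, x ∈ U.image φ ∧ x ∈ V := by
    by_contra h
    push Not at h
    have hdisj : Disjoint (U.image φ) V := Finset.disjoint_left.mpr fun x hx hx' => h x hx hx'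
    have hsub : U.image φ ∪ V ⊆ Finset.univ.erase 0 := by
      intro x hx
      rcases Finset.mem_union.mp hx with hx | hx
      · obtain ⟨y, hy, rfl⟩ := Finset.mem_image.mp hx
        have hy0 : y ≠ 0 := by simp [U] at hy; exact hy.1
        simp [φ, hδ, he10, hy0]
      · exact (Finset.mem_sdiff.mp hx).1
    have h3 := Finset.card_le_card hsub
    rw [Finset.card_union_of_disjoint hdisj, himg, Finset.card_erase_of_mem (Finset.mem_univ _),
      Finset.card_univ] at h3
    omega
  obtain ⟨c, hcU, rfl⟩ := Finset.mem_image.mp hc'1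
  simp [U] at hcU
  simp [V] at hc'2
  obtain ⟨P, hP, hPc⟩ := conv_two ha hA hdega hdetA e c hcU.1 hcU.2.1 (by rw [← he1]; exact hcU.2.2)
  obtain ⟨R, hR, hRc⟩ := conv_two hb hB hdegb hdetB e1 (φ c) (div_ne_zero hδ (mul_ne_zero he10 hcU.1))
    hc'2.2.1 hc'2.2.2
  subst he1
  refine ⟨_, ?_, hPc.chain hRc⟩
  rw [Obj.det_prod, Obj.det_prod, det_Lin, hP, hR]
  simp only [φ]
  field_simp [hcU.1]

/-- Equal blocks of size two whose number is the order of their determinant. -/
theorem comm_equal_blocks {A : Obj F} {a : F[X]} (ha : a.Monic) (hA : A.Cyc a) (hdeg : a.natDegree = 2)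
    {t : ℕ} (hD : IsPrimitiveRoot A.det t) (ht : 3 ≤ t) : Comm (Pow A t) := by
  have hdet : A.det ≠ 0 := hD.ne_zero (by omega)
  have hD1 : A.det ≠ 1 := fun h => hD.pow_ne_one_of_pos_of_lt (l := 1) one_ne_zero (by omega) (by rw [h, one_pow])
  have hD2 : A.det ^ 2 ≠ 1 := hD.pow_ne_one_of_pos_of_lt (by omega) (by omega)
  have key : ∀ k, ∀ e : F, e ≠ 0 → ∃ P : Obj F, e * P.det = e ^ (2 * (k + 1)) * A.det ^ ((k + 1) * (k + 2)) ∧
      Conv (Pow A (k + 1)) ((Lin e).prod P) ((Lin (e * A.det ^ (k + 1))).prod P) := by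
    intro k
    induction k with
    | zero =>
      intro e he
      obtain ⟨P, hP, hc⟩ := conv_two ha hA hdeg hdet e (e * A.det ^ 2) (mul_ne_zero he (pow_ne_zero _ hdet))
        (fun h => hD2 (by simpa [he] using h))
        (fun h => hD1 (by
          rw [sq, ← mul_assoc] at h
          simpa [mul_ne_zero he hdet] using h))
      exact ⟨P, by rw [hP]; ring, by rw [pow_one]; exact hc.of_iso (pow_one_iso A).symm⟩
    | succ k ih =>
      intro e he
      obtain ⟨P, hP, hc⟩ := conv_two ha hA hdeg hdet e (e * A.det ^ 2) (mul_ne_zero he (pow_ne_zero _ hdet))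
        (fun h => hD2 (by simpa [he] using h))
        (fun h => hD1 (by
          rw [sq, ← mul_assoc] at h
          simpa [mul_ne_zero he hdet] using h))
      obtain ⟨R, hR, hRc⟩ := ih (e * A.det) (mul_ne_zero he hdet)
      have hRc' : Conv (Pow A (k + 1)) ((Lin (e * A.det)).prod R)
          ((Lin (e * A.det * (Pow A (k + 1)).det)).prod R) := by rw [det_pow]; exact hRc
      refine ⟨_, ?_, Conv.mono (hc.chain hRc') (Obj.Iso.refl _) ?_⟩
      · rw [Obj.det_prod, Obj.det_prod, det_Lin, hP]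
        rw [show e * (e * A.det * (e * A.det ^ 2 * R.det)) = e * e * A.det ^ 2 * (e * A.det * R.det) by ring,
          hR, mul_pow]
        ring
      · rw [Obj.det_prod, det_pow, ← pow_succ']
        exact Obj.Iso.refl _
  obtain ⟨k, rfl⟩ : ∃ k, t = k + 1 := ⟨t - 1, by omega⟩
  obtain ⟨P, hP, hc⟩ := key k 1 one_ne_zero
  rw [one_mul, hD.pow_eq_one] at hc
  refine comm_of_conv hc (Obj.Iso.refl _) ?_ (full_line _).prod_left
  rw [one_mul, one_pow, one_mul, pow_mul, hD.pow_eq_one, one_pow] at hP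
  rw [Obj.det_prod, det_Lin, one_mul, hP]

/-- Two blocks of size two with determinant of order two. -/
theorem comm_two_two [Finite F] (hcard : ∀ x y : F, ∃ c : F, c ≠ 0 ∧ c ≠ x ∧ c ≠ y) {A : Obj F} {a : F[X]}
    (ha : a.Monic) (hA : A.Cyc a) (hdeg : a.natDegree = 2) (hdet : A.det = -1) : Comm (Pow A 2) := by
  have hd0 : A.det ≠ 0 := by rw [hdet]; exact neg_ne_zero.mpr one_ne_zero
  obtain ⟨c, hc0, hc1, hc2⟩ := hcard 1 (-1)
  obtain ⟨P, hP, hPc⟩ := conv_two ha hA hdeg hd0 1 c hc0 hc1 (by rwa [one_mul, hdet])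
  obtain ⟨R, hR, hRc⟩ := conv_two ha hA hdeg hd0 (1 * A.det) (-c⁻¹) (neg_ne_zero.mpr (inv_ne_zero hc0))
    (by rw [one_mul, hdet]; simpa using hc1)
    (by
      rw [one_mul, hdet, neg_mul_neg, one_mul]
      intro h
      refine hc2 ?_
      have h2 : c⁻¹ = -1 := by rw [← h, neg_neg]
      rw [← inv_inv c, h2, inv_neg, inv_one])
  refine Comm.of_iso ((Obj.Iso.refl A).prod (pow_one_iso A).symm) ?_
  refine comm_of_conv (hPc.chain hRc) ?_ ?_ (full_line _).prod_left
  · rw [Obj.det_prod, hdet]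
    simp only [neg_mul_neg, one_mul]
    exact Obj.Iso.refl _
  · simp only [Obj.det_prod, det_Lin, hP, hR, hdet]
    field_simp

end Cfsg.Agent.Classical.Thompson
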